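import Cfsg.Agent.EqLemmas
import Cfsg.Prelude.Def_Involutions
import Cfsg.Prelude.Def_Exceptional
import Cfsg.Prelude.Def_Classification2

/-!
# Simple groups with abelian Sylow 2-subgroups: interface (owner: helper63; plan in `NOTES.md`)

* `Elem8 G`            : simple, Sylow 2-subgroups elementary of order 8, no strongly embedded subgroup
* `JTData G t F`       : Janko-Thompson situation, `C(t) = ⟨t⟩ × L₂(q)`, `q = |F| ≡ 3, 5 (mod 8)`, `q ≥ 5`
* `CentTarget`         : part (a), Bender: `Elem8` gives `JTData`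
* `ThreeTarget`        : part (b), Janko-Thompson: `q = 5` or `q = 3^(2m+1)`
* `OrderTarget`        : part (c), Ward: the order for `q = 3^(2m+1)`
-/

set_option autoImplicit false

namespace Cfsg.Agent.AbelianSylow

open Cfsg Subgroup

universe u

/-- A simple group with elementary Sylow 2-subgroups of order 8 and no strongly embedded subgroup. -/
structure Elem8 (G : Type u) [Group G] [Finite G] : Prop where
  simple : IsSimpleGroup G
  nonab : ¬ IsMulCommutative G
  sylow : ∀ P : Sylow 2 G, IsElementaryAbelian 2 (P : Subgroup G) ∧ Nat.card ↥(P : Subgroup G) = 8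
  notSE : ¬ ∃ H : Subgroup G, IsStronglyEmbedded H

/-- The Janko-Thompson situation. -/
structure JTData (G : Type u) [Group G] [Finite G] (t : G) (F : Type) [Field F] [Fintype F] : Prop where
  simple : IsSimpleGroup G
  nonab : ¬ IsMulCommutative G
  sylow : ∀ P : Sylow 2 G, IsElementaryAbelian 2 (P : Subgroup G) ∧ Nat.card ↥(P : Subgroup G) = 8
  invol : orderOf t = 2
  five : 5 ≤ Fintype.card F
  mod8 : Fintype.card F % 8 = 3 ∨ Fintype.card F % 8 = 5
  cent : Nonempty (↥(centralizer ({t} : Set G)) ≃*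
    Multiplicative (ZMod 2) × Matrix.ProjectiveSpecialLinearGroup (Fin 2) F)

/-- Part (a): the centraliser of an involution. -/
def CentTarget : Prop :=
  ∀ (G : Type u) [Group G] [Finite G], Elem8 G →
    ∃ (t : G) (F : Type) (_ : Field F) (_ : Fintype F), JTData G t F

/-- Part (b): the field. -/
def ThreeTarget : Prop :=
  ∀ (G : Type u) [Group G] [Finite G] (t : G) (F : Type) [Field F] [Fintype F], JTData G t F →
    Fintype.card F = 5 ∨ ∃ m : ℕ, 1 ≤ m ∧ Fintype.card F = 3 ^ (2 * m + 1)

/-- Part (c): the order. -/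
def OrderTarget : Prop :=
  ∀ (G : Type u) [Group G] [Finite G] (t : G) (F : Type) [Field F] [Fintype F], JTData G t F →
    ∀ m : ℕ, 1 ≤ m → Fintype.card F = 3 ^ (2 * m + 1) →
      Nat.card G = (3 ^ (2 * m + 1)) ^ 3 * ((3 ^ (2 * m + 1)) ^ 3 + 1) * (3 ^ (2 * m + 1) - 1)

end Cfsg.Agent.AbelianSylow
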