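import Cfsg.Agent.EqLemmas
import Cfsg.Agent.Lib.AbelianSylow.Targets
import Cfsg.Agent.Lib.AbelianSylowTwo.SolvCent
import Cfsg.Agent.Lib.EvenTypeClosed.MainAtAll
import Cfsg.Agent.Lib.GWKlein.General.Main
import Cfsg.Agent.Lib.CentFour.Sylow
import Cfsg.Agent.Lib.AbelCent.Transfer
import Cfsg.Agent.Lib.PSL2.KleinCentre

/-!
# Simple groups with abelian Sylow 2-subgroups: the three cases (owner: helper63)

* `two_dvd`            : a non-abelian simple group has even order
* `embedded_case`      : with a strongly embedded subgroup, `L₂(2^n)`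
* `simple_cases`       : `L₂(2^n)`, `L₂(q)` with `q ≡ 3, 5 (mod 8)`, or `Elem8`
-/

set_option autoImplicit false
set_option linter.style.haveILetI false

namespace Cfsg.Agent.AbelianSylow

open Subgroup

universe u

variable {G : Type u} [Group G] [Finite G]

/-- A non-abelian simple group has even order. -/
theorem two_dvd [IsSimpleGroup G] (hna : ¬ IsMulCommutative G) : 2 ∣ Nat.card G := by
  by_contra h
  haveI : Group.IsSolvable G := OddOrderTheorem.solvable
    (Nat.not_even_iff_odd.1 fun he => h (even_iff_two_dvd.1 he))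
  exact hna ⟨⟨IsSimpleGroup.comm_iff_isSolvable.2 inferInstance⟩⟩

/-- Abelian Sylow 2-subgroups for all from one. -/
theorem sylow_comm_all (S : Sylow 2 G) (hS : IsMulCommutative (S : Subgroup G)) (P : Sylow 2 G) :
    IsMulCommutative (P : Subgroup G) := by
  haveI : Fact (Nat.Prime 2) := ⟨Nat.prime_two⟩
  exact ⟨⟨fun a b => (S.equiv P).symm.injective (by rw [map_mul, map_mul]; exact hS.is_comm.comm _ _)⟩⟩

/-- The involutions of an abelian Sylow 2-subgroup. -/
def omega (S : Subgroup G) (hS : IsMulCommutative S) : Subgroup G where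
  carrier := {x | x ∈ S ∧ x * x = 1}
  one_mem' := ⟨S.one_mem, one_mul 1⟩
  mul_mem' := by
    rintro x y ⟨hx, hx2⟩ ⟨hy, hy2⟩
    have hc : x * y = y * x := congrArg Subtype.val (hS.is_comm.comm ⟨x, hx⟩ ⟨y, hy⟩)
    exact ⟨S.mul_mem hx hy, by rw [mul_assoc, ← mul_assoc y, ← hc, mul_assoc x y, hy2, mul_one, hx2]⟩
  inv_mem' := by
    rintro x ⟨hx, hx2⟩
    exact ⟨S.inv_mem hx, by rw [← mul_inv_rev, hx2, inv_one]⟩

theorem omega_elementary (S : Subgroup G) (hS : IsMulCommutative S) :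
    Cfsg.IsElementaryAbelian 2 (omega S hS) := by
  refine ⟨⟨⟨fun a b => Subtype.ext ?_⟩⟩, fun x hx => by rw [pow_two]; exact hx.2⟩
  show (a : G) * b = b * a
  exact congrArg Subtype.val (hS.is_comm.comm ⟨(a : G), a.2.1⟩ ⟨(b : G), b.2.1⟩)

omit [Finite G] in
theorem omega_closed (S : Subgroup G) (hS : IsMulCommutative S) : Cfsg.IsStronglyClosed (omega S hS) S := by
  refine ⟨fun x hx => hx.1, fun x hx g hg => ⟨hg, ?_⟩⟩
  simp [mul_assoc, ← mul_assoc x x, hx.2]

/-- The 2-rank is at least two. -/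
theorem twoInvolutions [IsSimpleGroup G] (hna : ¬ IsMulCommutative G) (S : Sylow 2 G)
    (hS : IsMulCommutative (S : Subgroup G)) : SuzukiRankOne.TwoInvolutions G := by
  classical
  haveI : Fact (Nat.Prime 2) := ⟨Nat.prime_two⟩
  have hnc := CentFour.not_cyclic_sylow hna (two_dvd hna) S
  set Ω₁ := omega (S : Subgroup G) hS
  have hcard : 4 ≤ Nat.card Ω₁ := by
    haveI := hS
    obtain ⟨u, hu, v, hv, hu2, hv2, huv⟩ : ∃ u ∈ (S : Subgroup G), ∃ v ∈ (S : Subgroup G),
        CAEven.Inv u ∧ CAEven.Inv v ∧ u ≠ v := by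
      by_contra h
      push Not at h
      exact hnc (AbelCent.isCyclic_of_unique_inv S.isPGroup' fun x y hx hy hx2 hy2 => h x hx y hy hx2 hy2)
    have hu' : u * u = 1 := hu2.2
    have hv' : v * v = 1 := hv2.2
    obtain ⟨k, hk⟩ := IsPGroup.iff_card.1
      (S.isPGroup'.to_le (show Ω₁ ≤ (S : Subgroup G) from fun x hx => hx.1))
    have h3 : ({1, u, v} : Set G) ⊆ Ω₁ := by
      rintro x (rfl | rfl | rfl)
      exacts [Ω₁.one_mem, ⟨hu, hu'⟩, ⟨hv, hv'⟩]
    have h3' := Nat.card_mono (Set.toFinite _) h3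
    rw [Nat.card_coe_set_eq, Set.ncard_eq_three.2 ⟨1, u, v, hu2.1.symm, hv2.1.symm, huv, rfl⟩] at h3'
    rw [SetLike.coe_sort_coe, hk] at h3'
    rcases k with _ | _ | k
    · norm_num at h3'
    · norm_num at h3'
    · rw [hk]
      exact (show 4 = 2 ^ 2 from rfl) ▸ Nat.pow_le_pow_right two_pos (by omega)
  have hrk : Cfsg.PRankAtLeast 2 2 G := ⟨Ω₁, (omega_elementary _ hS).1,
    fun x hx => (omega_elementary _ hS).2 x hx, by simpa using hcard⟩
  exact Bender.twoInvolutions_of_rank hrk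

omit [Finite G] in
theorem normalCore_eq_bot [IsSimpleGroup G] {H : Subgroup G} (hH : Cfsg.IsStronglyEmbedded H) :
    H.normalCore = ⊥ :=
  (inferInstance : H.normalCore.Normal).eq_bot_or_eq_top.resolve_right fun e =>
    hH.1 (top_le_iff.1 (e ▸ H.normalCore_le))

/-- A strongly embedded subgroup has index `|S| + 1`. -/
theorem embedded_index [IsSimpleGroup G] (hna : ¬ IsMulCommutative G) (S : Sylow 2 G)
    (hS : IsMulCommutative (S : Subgroup G)) {H : Subgroup G} (hH : Cfsg.IsStronglyEmbedded H) :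
    H.index = Nat.card ↥(S : Subgroup G) + 1 := by
  haveI : Fact (Nat.Prime 2) := ⟨Nat.prime_two⟩
  have h2 := twoInvolutions hna S hS
  have hcore := normalCore_eq_bot hH
  obtain ⟨t, Q, hset⟩ := Bender.rankOneHalf G H hH hcore h2
  haveI := Bender.faithful_of_normalCore hcore
  obtain ⟨-, ⟨R, hR⟩, -⟩ := Bender.sylow_normal hset h2
  rw [Subgroup.index_eq_card, RankOne.Setup.card_omega hset, ← hR, Nat.card_congr (S.equiv R).toEquiv]

/-- A centraliser of an involution in a strongly embedded subgroup, after conjugation. -/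
theorem embedded_centralizer [IsSimpleGroup G] {H : Subgroup G} (hH : Cfsg.IsStronglyEmbedded H) {t : G}
    (ht : orderOf t = 2) : ∃ g : G, ∀ c ∈ centralizer ({t} : Set G), g * c * g⁻¹ ∈ H := by
  haveI : Fact (Nat.Prime 2) := ⟨Nat.prime_two⟩
  obtain ⟨hne, hev, hfix⟩ := Involution.isStronglyEmbedded_iff_forall.1 hH
  obtain ⟨g₀, hg₀⟩ := Involution.exists_conj_mem hH ht
  obtain ⟨g, rfl⟩ : ∃ g, g⁻¹ = g₀ := ⟨g₀⁻¹, inv_inv g₀⟩
  have hg : g * t * g⁻¹ ∈ H := by simpa using hg₀
  refine ⟨g, fun c hc => hfix _ (g * t * g⁻¹) (by rw [Involution.orderOf_conj, ht]) hg ?_⟩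
  have hc' : c * t = t * c := mem_centralizer_singleton_iff.1 hc
  convert hg using 1
  calc g * c * g⁻¹ * (g * t * g⁻¹) * (g * c * g⁻¹)⁻¹ = g * (c * t) * c⁻¹ * g⁻¹ := by group
    _ = g * t * g⁻¹ := by rw [hc']; group

/-- The case of a strongly embedded subgroup. -/
theorem embedded_case [IsSimpleGroup G] (hna : ¬ IsMulCommutative G) (S : Sylow 2 G)
    (hS : IsMulCommutative (S : Subgroup G)) {H : Subgroup G} (hH : Cfsg.IsStronglyEmbedded H) :
    ∃ a : ℕ, 2 ≤ a ∧ ∃ (F : Type) (_ : Field F) (_ : Fintype F), Fintype.card F = 2 ^ a ∧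
      Nonempty (G ≃* Matrix.ProjectiveSpecialLinearGroup (Fin 2) F) := by
  haveI : Fact (Nat.Prime 2) := ⟨Nat.prime_two⟩
  have h2 := twoInvolutions hna S hS
  have hcore := normalCore_eq_bot hH
  obtain ⟨t, Q, hset⟩ := Bender.rankOneHalf G H hH hcore h2
  haveI := Bender.faithful_of_normalCore hcore
  obtain ⟨-, ⟨R, hR⟩, -⟩ := Bender.sylow_normal hset h2
  have hQc : IsMulCommutative Q := hR ▸ sylow_comm_all S hS R
  obtain ⟨L, hLn, hLodd, F, _, _, ⟨n, hn, hF⟩, ⟨e⟩⟩ :=
    SuzukiRankOne.elementary_case hset h2 ((SuzukiRankOne.kernelShape _ _ _ _ _ hset h2).2 hQc)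
  have hL : L = ⊤ := hLn.eq_bot_or_eq_top.resolve_left fun hb => by
    subst hb
    haveI : Group.IsSolvable G := OddOrderTheorem.solvable (by simpa [index_bot] using hLodd)
    exact hna ⟨⟨IsSimpleGroup.comm_iff_isSolvable.2 inferInstance⟩⟩
  subst hL
  exact ⟨n, hn, F, _, _, hF, ⟨Subgroup.topEquiv.symm.trans e⟩⟩

/-- Without a strongly embedded subgroup. -/
theorem small_cases [IsSimpleGroup G] (hna : ¬ IsMulCommutative G) (S : Sylow 2 G)
    (hS : IsMulCommutative (S : Subgroup G)) (hSE : ¬ ∃ H : Subgroup G, Cfsg.IsStronglyEmbedded H) :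
    (∃ (F : Type) (_ : Field F) (_ : Fintype F),
        ((Fintype.card F % 8 = 3 ∨ Fintype.card F % 8 = 5) ∧ 5 ≤ Fintype.card F) ∧
        Nonempty (G ≃* Matrix.ProjectiveSpecialLinearGroup (Fin 2) F)) ∨
      Elem8 G := by
  haveI : Fact (Nat.Prime 2) := ⟨Nat.prime_two⟩
  have h2 := two_dvd hna
  have hne : omega (S : Subgroup G) hS ≠ ⊥ := by
    obtain ⟨x, hx⟩ := exists_prime_orderOf_dvd_card' (G := ↥(S : Subgroup G)) 2 (S.dvd_card_of_dvd_card h2)
    intro e
    have hm : (x : G) ∈ omega (S : Subgroup G) hS := ⟨x.2, by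
      have h := congrArg Subtype.val (pow_orderOf_eq_one x)
      rw [hx, pow_two] at h
      simpa using h⟩
    rw [e, mem_bot] at hm
    rw [show x = 1 from Subtype.ext hm, orderOf_one] at hx
    omega
  obtain ⟨hel, h8⟩ := (EvenTypeClosed.mainAt_all G inferInstance
      (by by_contra h; push Not at h; exact hna ⟨⟨h⟩⟩) S (omega (S : Subgroup G) hS) hne
      (omega_elementary _ hS) (omega_closed _ hS)).resolve_left hSE
  obtain ⟨k, hk⟩ := S.isPGroup'.exists_card_eq
  have hk2 : 2 ≤ k := by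
    by_contra hlt
    refine CentFour.not_cyclic_sylow hna h2 S ?_
    rcases (show k = 0 ∨ k = 1 by omega) with rfl | rfl
    · haveI : Subsingleton ↥(S : Subgroup G) := Finite.card_le_one_iff_subsingleton.1 (by rw [hk, pow_zero])
      infer_instance
    · exact isCyclic_of_prime_card (hk.trans (pow_one 2))
  have hk3 : k ≤ 3 := by
    by_contra hlt
    have : 2 ^ 4 ≤ Nat.card ↥(S : Subgroup G) := hk ▸ Nat.pow_le_pow_right two_pos (by omega)
    norm_num at this
    omega
  rcases (show k = 2 ∨ k = 3 by omega) with rfl | rfl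
  · left
    have hK : IsKleinFour ↥(S : Subgroup G) := by
      refine ⟨by rw [hk]; norm_num, ?_⟩
      have hdvd : Monoid.exponent ↥(S : Subgroup G) ∣ 2 :=
        Monoid.exponent_dvd_of_forall_pow_eq_one fun x => Subtype.ext (hel.2 x x.2)
      refine ((Nat.dvd_prime Nat.prime_two).1 hdvd).resolve_left fun h1 => ?_
      haveI := Monoid.exp_eq_one_iff.1 h1
      have := Nat.card_of_subsingleton (1 : ↥(S : Subgroup G))
      omega
    obtain ⟨F, _, _, hodd, ⟨e⟩⟩ := GWKlein.kleinGW G inferInstance hna S hK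
    have hab : ∀ P : Sylow 2 (Matrix.ProjectiveSpecialLinearGroup (Fin 2) F),
        IsMulCommutative (P : Subgroup (Matrix.ProjectiveSpecialLinearGroup (Fin 2) F)) := fun P => by
      let R : Sylow 2 G := P.comapOfInjective e.toMonoidHom e.injective (fun y _ => ⟨e.symm y, by simp⟩)
      have hR := sylow_comm_all S hS R
      refine ⟨⟨fun a b => Subtype.ext (e.symm.injective ?_)⟩⟩
      have ha : e.symm a ∈ (R : Subgroup G) := by simp [R]
      have hb : e.symm b ∈ (R : Subgroup G) := by simp [R]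
      simpa using congrArg Subtype.val (hR.is_comm.comm ⟨_, ha⟩ ⟨_, hb⟩)
    have h8' := PSL2.mod_eight_of_comm (F := F) (by rwa [Nat.card_eq_fintype_card]) hab
    rw [Nat.card_eq_fintype_card] at h8'
    refine ⟨F, _, _, ⟨h8', ?_⟩, ⟨e⟩⟩
    by_contra hlt
    have h3 : Fintype.card F = 3 := by omega
    have hc := PSL2.card_psl_mul (F := F)
    have hF3 : Nat.card F = 3 := by rw [Nat.card_eq_fintype_card, h3]
    rw [hF3, show Nat.gcd 2 (3 - 1) = 2 from rfl] at hc
    have h12 : Nat.card G = 12 := by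
      rw [Nat.card_congr e.toEquiv]
      change 2 * Nat.card (Matrix.ProjectiveSpecialLinearGroup (Fin 2) F) = 24 at hc
      omega
    haveI : Group.IsSolvable G := PSL2.isSolvable_of_card_two_three (by rw [h12]; decide)
    exact hna ⟨⟨IsSimpleGroup.comm_iff_isSolvable.2 inferInstance⟩⟩
  · right
    refine ⟨inferInstance, hna, fun P => ?_, hSE⟩
    have e := S.equiv P
    refine ⟨⟨sylow_comm_all S hS P, fun x hx => ?_⟩, by rw [← Nat.card_congr e.toEquiv, hk]; norm_num⟩
    have h := hel.2 _ (e.symm ⟨x, hx⟩).2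
    have h' : (e.symm ⟨x, hx⟩) ^ 2 = 1 := Subtype.ext h
    rw [← map_pow] at h'
    exact congrArg Subtype.val (e.symm.map_eq_one_iff.1 h')

/-- **The three cases.** -/
theorem simple_cases [IsSimpleGroup G] (hna : ¬ IsMulCommutative G) (S : Sylow 2 G)
    (hS : IsMulCommutative (S : Subgroup G)) :
    (∃ a : ℕ, 2 ≤ a ∧ ∃ (F : Type) (_ : Field F) (_ : Fintype F), Fintype.card F = 2 ^ a ∧
        Nonempty (G ≃* Matrix.ProjectiveSpecialLinearGroup (Fin 2) F)) ∨
      (∃ (F : Type) (_ : Field F) (_ : Fintype F),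
        ((Fintype.card F % 8 = 3 ∨ Fintype.card F % 8 = 5) ∧ 5 ≤ Fintype.card F) ∧
        Nonempty (G ≃* Matrix.ProjectiveSpecialLinearGroup (Fin 2) F)) ∨
      Elem8 G := by
  by_cases hSE : ∃ H : Subgroup G, Cfsg.IsStronglyEmbedded H
  · obtain ⟨H, hH⟩ := hSE
    exact Or.inl (embedded_case hna S hS hH)
  · exact Or.inr (small_cases hna S hS hSE)

end Cfsg.Agent.AbelianSylow
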