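import Cfsg.Agent.EqLemmas
import Cfsg.Agent.Lib.AbelianSylow.SimpleCases
import Cfsg.Agent.Lib.AbelianSylow.Cent.CoreBasic
import Cfsg.Agent.Lib.AbelianSylow.Local.Basic
import Cfsg.Agent.Lib.AbelianSylowUse.Eight
import Cfsg.Agent.Lib.Linear.PSLTwoSmall
import Cfsg.Agent.Lib.PSL2.Subgroups
import Cfsg.Agent.S0448
import Cfsg.Prelude.Def_LocalEven

/-!
# Simple groups with abelian Sylow 2-subgroups: consumers of the three targets (owner: helper63)

* `jt_isJ1`          : `q = 5` gives the order of the smallest Janko group (iso type: `Janko.lean`)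
* `jt_reeType`       : `q = 3^(2m+1)` gives the Ree type
* `walter_of`        : `AbelianSylowUse.WalterStatement`
* `centralizer_psl_of` : the statement of S0343
-/

set_option autoImplicit false
set_option linter.style.haveILetI false

namespace Cfsg.Agent.AbelianSylow

open Subgroup

universe u v

variable {G : Type u} [Group G] [Finite G]

/-- A Sylow 2-subgroup through an involution centralises it when it is abelian. -/
theorem exists_sylow_centralizing (hab : ∀ P : Sylow 2 G, IsMulCommutative (P : Subgroup G)) {t : G}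
    (ht : orderOf t = 2) :
    ∃ P : Sylow 2 G, t ∈ P ∧ (P : Subgroup G) ≤ centralizer ({t} : Set G) := by
  haveI : Fact (Nat.Prime 2) := ⟨Nat.prime_two⟩
  obtain ⟨P, hP⟩ := (IsPGroup.of_card (n := 1) (G := zpowers t)
    (by rw [Nat.card_zpowers, ht, pow_one])).exists_le_sylow
  refine ⟨P, hP (mem_zpowers t), fun x hx => mem_centralizer_singleton_iff.2 ?_⟩
  exact congrArg Subtype.val ((hab P).is_comm.comm ⟨x, hx⟩ ⟨t, hP (mem_zpowers t)⟩)

theorem two_central (hab : ∀ P : Sylow 2 G, IsMulCommutative (P : Subgroup G)) {t : G}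
    (ht : orderOf t = 2) : Cfsg.IsTwoCentralInvolution t := by
  obtain ⟨P, htP, hP⟩ := exists_sylow_centralizing hab ht
  exact ⟨ht, P, htP, fun x hx => mem_centralizer_singleton_iff.1 (hP hx)⟩

omit [Finite G] in
theorem cent_altFive {F : Type v} [Field F] [Fintype F] (hq : Fintype.card F = 4 ∨ Fintype.card F = 5)
    {t : G} (hC : Nonempty (↥(centralizer ({t} : Set G)) ≃*
      Multiplicative (ZMod 2) × Matrix.ProjectiveSpecialLinearGroup (Fin 2) F)) :
    Nonempty (↥(centralizer ({t} : Set G)) ≃* Multiplicative (ZMod 2) × alternatingGroup (Fin 5)) := by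
  obtain ⟨e⟩ := hC
  obtain ⟨f⟩ : Nonempty (Matrix.ProjectiveSpecialLinearGroup (Fin 2) F ≃* alternatingGroup (Fin 5)) := by
    rcases hq with h | h
    · exact Linear.nonempty_pslTwo_four (by rw [Nat.card_eq_fintype_card, h])
    · exact Linear.nonempty_pslTwo_five h
  exact ⟨e.trans ((MulEquiv.refl _).prodCongr f)⟩

/-- `q = 5`: the order of the smallest Janko group. -/
theorem jt_isJ1 {t : G} {F : Type} [Field F] [Fintype F] (hJ : JTData G t F) (h5 : Fintype.card F = 5) :
    Cfsg.IsJ1 G := by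
  haveI := hJ.simple
  have hab : ∀ P : Sylow 2 G, IsMulCommutative (P : Subgroup G) := fun P => (hJ.sylow P).1.1
  obtain ⟨e⟩ := cent_altFive (Or.inr h5) hJ.cent
  exact S0448.result t (two_central hab hJ.invol) e

/-- `q = 3^(2m+1)`: the Ree type. -/
theorem jt_reeType {t : G} {F : Type} [Field F] [Fintype F] (hJ : JTData G t F) {m : ℕ} (hm : 1 ≤ m)
    (hF : Fintype.card F = 3 ^ (2 * m + 1)) : Cfsg.IsReeType G := by
  haveI : Fact (Nat.Prime 2) := ⟨Nat.prime_two⟩
  obtain ⟨L, hL⟩ := Local.exists_lfac hJ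
  refine ⟨hJ.simple, hJ.nonab, t, L, m, hm, hJ.invol, ?_, ?_, F, inferInstance, inferInstance, hF, hL.iso⟩
  · obtain ⟨P, -, hP⟩ := exists_sylow_centralizing (fun P => (hJ.sylow P).1.1) hJ.invol
    exact Nat.not_even_iff_odd.1 fun he =>
      P.not_dvd_index ((even_iff_two_dvd.1 he).trans (index_dvd_of_le hP))
  · have htC : t ∈ centralizer ({t} : Set G) := mem_centralizer_singleton_iff.2 rfl
    have hLC : L ≤ centralizer ({t} : Set G) := fun x hx =>
      mem_centralizer_singleton_iff.2 (hL.ctx.commute_of_mem hx).eq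
    refine ⟨zpowers_le.2 htC, hLC, fun a ha b hb => ?_, ?_, le_antisymm (sup_le (zpowers_le.2 htC) hLC) ?_⟩
    · obtain ⟨k, rfl⟩ := mem_zpowers_iff.1 ha
      exact ((hL.ctx.commute_of_mem hb).symm.zpow_left k).eq
    · rw [eq_bot_iff]
      rintro x ⟨hx, hxL⟩
      obtain ⟨k, rfl⟩ := mem_zpowers_iff.1 hx
      rcases Int.even_or_odd k with ⟨j, rfl⟩ | ⟨j, rfl⟩
      · rw [mem_bot, ← two_mul, zpow_mul, show t ^ (2 : ℤ) = 1 by rw [zpow_two, hL.tt], one_zpow]
      · rw [zpow_add, zpow_mul, show t ^ (2 : ℤ) = 1 by rw [zpow_two, hL.tt], one_zpow, one_mul, zpow_one] at hxL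
        exact absurd hxL hL.ctx.htE
    · intro c hc
      rcases hL.ctx.split c (mem_centralizer_singleton_iff.1 hc) with h | ⟨e, he, rfl⟩
      · exact mem_sup_right h
      · exact mul_mem_sup (mem_zpowers t) he

/-- **Walter's theorem** from the three parts. -/
theorem walter_of (hA : CentTarget.{u}) (hB : ThreeTarget.{u}) (hC : OrderTarget.{u}) :
    AbelianSylowUse.WalterStatement.{u} := by
  intro G _ _ hs hna S hS
  rcases simple_cases hna S hS with h | ⟨F, iF, iF', hF, he⟩ | h
  · exact Or.inl h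
  · exact Or.inr (Or.inl ⟨F, iF, iF', hF.1, he⟩)
  · obtain ⟨t, F, iF, iF', hJ⟩ := hA G h
    rcases hB G t F hJ with h5 | ⟨m, hm, hF⟩
    · exact Or.inr (Or.inr (Or.inr (jt_isJ1 hJ h5)))
    · exact Or.inr (Or.inr (Or.inl ⟨hs, m, hm, hC G t F hJ m hm hF⟩))

/-- A finite field has a copy in `Type`. -/
theorem exists_small_field (F : Type v) [Field F] [Fintype F] :
    ∃ (K : Type) (_ : Field K) (_ : Fintype K), Fintype.card K = Fintype.card F ∧
      Nonempty (Matrix.ProjectiveSpecialLinearGroup (Fin 2) F ≃*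
        Matrix.ProjectiveSpecialLinearGroup (Fin 2) K) := by
  obtain ⟨n, hp, hn⟩ := FiniteField.card F (ringChar F)
  haveI : Fact (ringChar F).Prime := ⟨hp⟩
  letI := Fintype.ofFinite (GaloisField (ringChar F) n)
  have hc : Fintype.card (GaloisField (ringChar F) n) = Fintype.card F := by
    rw [← Nat.card_eq_fintype_card, GaloisField.card _ _ n.pos.ne', hn]
  exact ⟨GaloisField (ringChar F) n, inferInstance, inferInstance, hc,
    ⟨PSL2.pslEquiv (FiniteField.ringEquivOfCardEq hc.symm)⟩⟩

/-- The centraliser `2 × L₂(q)` rules out a strongly embedded subgroup. -/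
theorem no_embedded [IsSimpleGroup G] (hna : ¬ IsMulCommutative G) (S : Sylow 2 G)
    (hS : IsMulCommutative (S : Subgroup G)) {F : Type} [Field F] [Fintype F] (hq : 3 ≤ Fintype.card F)
    {t : G} (ht : orderOf t = 2)
    (hC : Nonempty (↥(centralizer ({t} : Set G)) ≃*
      Multiplicative (ZMod 2) × Matrix.ProjectiveSpecialLinearGroup (Fin 2) F)) :
    ¬ ∃ H : Subgroup G, Cfsg.IsStronglyEmbedded H := by
  rintro ⟨H, hH⟩
  haveI : Fact (Nat.Prime 2) := ⟨Nat.prime_two⟩
  obtain ⟨e⟩ := hC
  obtain ⟨g, hg⟩ := embedded_centralizer hH ht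
  let f : ↥(centralizer ({t} : Set G)) →* ↥H :=
    ((MulAut.conj g).toMonoidHom.comp (centralizer ({t} : Set G)).subtype).codRestrict H fun c => hg c c.2
  have hf : Function.Injective f := fun a b h => by
    have h' : g * (a : G) * g⁻¹ = g * b * g⁻¹ := congrArg Subtype.val h
    exact Subtype.ext (mul_left_cancel (mul_right_cancel h'))
  rcases Nat.lt_or_ge (Fintype.card F) 4 with h3 | h4
  · -- `q = 3`: then `|G| = 504` and `|H| = 56`
    have hP : Nat.card (Matrix.ProjectiveSpecialLinearGroup (Fin 2) F) = 12 := by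
      have hc := PSL2.card_psl_mul (F := F)
      rw [show Nat.card F = 3 by rw [Nat.card_eq_fintype_card]; omega,
        show Nat.gcd 2 (3 - 1) = 2 from rfl] at hc
      change 2 * Nat.card (Matrix.ProjectiveSpecialLinearGroup (Fin 2) F) = 24 at hc
      omega
    have h24 : Nat.card ↥(centralizer ({t} : Set G)) = 24 := by
      rw [Nat.card_congr e.toEquiv, Nat.card_prod, hP]
      simp
    obtain ⟨a, ha, K, _, _, hK, ⟨φ⟩⟩ := embedded_case hna S hS hH
    obtain ⟨P, -, hP'⟩ := exists_sylow_centralizing (sylow_comm_all S hS) ht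
    have hi : H.index = Nat.card ↥(S : Subgroup G) + 1 := embedded_index hna S hS hH
    have hS8 : Nat.card ↥(S : Subgroup G) = 8 := by
      obtain ⟨k, hk⟩ := S.isPGroup'.exists_card_eq
      have h1 : 2 ^ k ∣ 24 := by
        rw [← hk, Nat.card_congr (S.equiv P).toEquiv, ← h24]
        exact card_dvd_of_le hP'
      have h2 : 2 ^ 3 ∣ Nat.card ↥(S : Subgroup G) := S.pow_dvd_card_of_pow_dvd_card
        ((show 2 ^ 3 ∣ 24 by norm_num).trans (h24 ▸ card_subgroup_dvd_card _))
      rw [hk] at h2 ⊢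
      have hk3 : 3 ≤ k := (Nat.pow_dvd_pow_iff_le_right (by norm_num)).1 h2
      have hk4 : k ≤ 3 := by
        by_contra hlt
        have := (pow_dvd_pow 2 (show 4 ≤ k by omega)).trans h1
        norm_num at this
      rw [show k = 3 by omega]
      rfl
    have hev : Even (Nat.card K) := by
      rw [Nat.card_eq_fintype_card, hK]; exact Nat.even_pow.2 ⟨even_two, by omega⟩
    have hG := PSLClassSizes.card_psl_even hev
    rw [← Nat.card_congr φ.toEquiv, Nat.card_eq_fintype_card (α := K), hK] at hG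
    have hH24 : 24 ∣ Nat.card ↥H := h24 ▸ card_dvd_of_injective f hf
    have hGH := H.card_mul_index
    rw [hi, hS8] at hGH
    have h16 := AbelianSylowUse.card_mod_sixteen S hS8
    rcases (show a = 2 ∨ a = 3 ∨ 4 ≤ a by omega) with rfl | rfl | h
    · norm_num at hG; omega
    · norm_num at hG; omega
    · obtain ⟨b, rfl⟩ := Nat.exists_eq_add_of_le h
      rw [show (2 ^ (4 + b)) ^ 3 = 16 * 2 ^ (3 * b + 8) by ring, show 2 ^ (4 + b) = 16 * 2 ^ b by ring] at hG
      omega
  · haveI : Group.IsSolvable ↥H := Bender.solvable_of_stronglyEmbedded Bender.rankOneHalf hH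
      (twoInvolutions hna S hS)
    haveI : Group.IsSolvable ↥(centralizer ({t} : Set G)) :=
      Group.isSolvable_of_isSolvable_injective (f := f) hf
    exact PSL2.not_isSolvable_psl (L := F) (by rwa [Nat.card_eq_fintype_card])
      (Group.isSolvable_of_surjective
        (f := (MonoidHom.snd _ _).comp e.toMonoidHom) (Prod.snd_surjective.comp e.surjective))

theorem exists_two_pow {K : Type} [Field K] [Fintype K] (hq : 3 ≤ Fintype.card K) (hev : Even (Fintype.card K)) :
    ∃ n : ℕ, 2 ≤ n ∧ Fintype.card K = 2 ^ n := by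
  obtain ⟨p, _⟩ := CharP.exists K
  obtain ⟨n, hp, hn⟩ := FiniteField.card K p
  have hp2 : p = 2 := ((Nat.prime_dvd_prime_iff_eq Nat.prime_two hp).1
    (Nat.prime_two.dvd_of_dvd_pow (hn ▸ even_iff_two_dvd.1 hev))).symm
  subst hp2
  refine ⟨n, ?_, hn⟩
  by_contra hlt
  rw [hn, show (n : ℕ) = 1 by have := n.pos; omega] at hq
  omega

theorem card_psl_two_pow {K : Type} [Field K] [Fintype K] {n : ℕ} (hn : Fintype.card K = 2 ^ n) :
    Nat.card (Matrix.ProjectiveSpecialLinearGroup (Fin 2) K) = 2 ^ n * ((2 ^ n + 1) * (2 ^ n - 1)) := by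
  have hc := PSL2.card_psl_mul (F := K)
  rw [Nat.card_eq_fintype_card (α := K), hn] at hc
  have h0 : n ≠ 0 := by
    rintro rfl
    have := Fintype.one_lt_card (α := K)
    rw [hn] at this
    norm_num at this
  have hg1 : Nat.gcd 2 (2 ^ n - 1) = 1 := by
    refine Nat.coprime_two_left.2 ?_
    have : 2 ∣ 2 ^ n := dvd_pow_self 2 h0
    have := Nat.one_le_two_pow (n := n)
    rw [Nat.odd_iff]; omega
  rwa [hg1, one_mul] at hc

/-- With soluble centralisers of involutions the cores of the centralisers are trivial. -/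
theorem cores_of_solvable (h : Elem8 G)
    (hall : ∀ w : G, orderOf w = 2 → Group.IsSolvable ↥(centralizer ({w} : Set G))) (w : G)
    (hw : orderOf w = 2) : Cfsg.centralizerPPrimeCore 2 w = ⊥ := by
  haveI : Fact (Nat.Prime 2) := ⟨Nat.prime_two⟩
  haveI := h.simple
  have hO : Cfsg.oddCore G = ⊥ :=
    (Cores.pPrimeCore_normal 2 G).eq_bot_or_eq_top.resolve_right fun e => by
      have h2 := two_dvd h.nonab
      have hc : Odd (Nat.card ↥(Cfsg.pPrimeCore 2 G)) :=
        Nat.coprime_two_right.1 (Cores.coprime_card_pPrimeCore (G := G) 2)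
      rw [e, card_top, ← Nat.not_even_iff_odd, even_iff_two_dvd] at hc
      exact hc h2
  obtain ⟨S⟩ : Nonempty (Sylow 2 G) := inferInstance
  haveI := h.abelian S
  refine CoreKilling.core_eq_bot_of_solvable (fun H hH => absurd ⟨H, hH⟩ h.notSE) hO S (S : Subgroup G) le_rfl
    (by rw [subgroupOf_self]; infer_instance) (h.abelian S) ?_ hall w hw
  intro hr
  have h1 := hr ⊤ ⟨⟨fun a b => Subtype.ext (mul_comm' (a : ↥(S : Subgroup G)) b)⟩⟩
    (fun a _ => Subtype.ext (by rw [SubmonoidClass.coe_pow]; exact (h.sylow S).1.2 a a.2))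
  rw [card_top, (h.sylow S).2] at h1
  norm_num at h1

/-- The statement of S0343 from the three parts. -/
theorem centralizer_psl_of (hB : ThreeTarget.{u}) (hC' : OrderTarget.{u}) [IsSimpleGroup G]
    (hab : ∀ P : Sylow 2 G, ∀ a b : P, a * b = b * a) {F : Type v} [Field F] [Fintype F]
    (hq : 3 ≤ Fintype.card F) (t : G) (ht : orderOf t = 2)
    (hC : Nonempty (centralizer ({t} : Set G) ≃*
      Multiplicative (ZMod 2) × Matrix.ProjectiveSpecialLinearGroup (Fin 2) F)) :
    (∃ m : ℕ, 1 ≤ m ∧ Fintype.card F = 3 ^ (2 * m + 1) ∧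
        Nat.card G = (3 ^ (2 * m + 1)) ^ 3 * ((3 ^ (2 * m + 1)) ^ 3 + 1) * (3 ^ (2 * m + 1) - 1)) ∨
      ((Fintype.card F = 4 ∨ Fintype.card F = 5) ∧ Cfsg.IsJ1 G) := by
  haveI : Fact (Nat.Prime 2) := ⟨Nat.prime_two⟩
  have hab' : ∀ P : Sylow 2 G, IsMulCommutative (P : Subgroup G) := fun P => ⟨⟨hab P⟩⟩
  by_cases h45 : Fintype.card F = 4 ∨ Fintype.card F = 5
  · obtain ⟨e⟩ := cent_altFive h45 hC
    exact Or.inr ⟨h45, S0448.result t (two_central hab' ht) e⟩
  obtain ⟨K, _, _, hK, ⟨ψ⟩⟩ := exists_small_field F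
  obtain ⟨e⟩ := hC
  have hCK : Nonempty (↥(centralizer ({t} : Set G)) ≃*
      Multiplicative (ZMod 2) × Matrix.ProjectiveSpecialLinearGroup (Fin 2) K) :=
    ⟨e.trans ((MulEquiv.refl _).prodCongr ψ)⟩
  have hqK : 3 ≤ Fintype.card K := hK ▸ hq
  have hna : ¬ IsMulCommutative G := fun h => by
    have hnc := PSL2.not_comm_psl (L := K) (by rwa [Nat.card_eq_fintype_card])
    obtain ⟨e'⟩ := hCK
    refine hnc fun a b => ?_
    have h1 := congrArg e' (Subtype.ext (h.is_comm.comm ((e'.symm (1, a) : ↥(centralizer ({t} : Set G))) : G)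
      ((e'.symm (1, b) : ↥(centralizer ({t} : Set G))) : G)) :
        e'.symm (1, a) * e'.symm (1, b) = e'.symm (1, b) * e'.symm (1, a))
    simpa using congrArg Prod.snd h1
  obtain ⟨S⟩ : Nonempty (Sylow 2 G) := inferInstance
  have hSE := no_embedded hna S (hab' S) hqK ht hCK
  obtain ⟨P, htP, hP⟩ := exists_sylow_centralizing hab' ht
  -- the order of `C(t)` is divisible by eight
  have h8 : 8 ∣ Nat.card ↥(centralizer ({t} : Set G)) := by
    obtain ⟨e'⟩ := hCK
    rw [Nat.card_congr e'.toEquiv, Nat.card_prod,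
      show Nat.card (Multiplicative (ZMod 2)) = 2 by simp, show 8 = 2 * 4 from rfl]
    refine Nat.mul_dvd_mul_left 2 ?_
    rcases Nat.even_or_odd (Fintype.card K) with hev | ⟨r, hr⟩
    · obtain ⟨n, hn2, hn⟩ := exists_two_pow hqK hev
      rw [card_psl_two_pow hn]
      exact dvd_mul_of_dvd_left (pow_dvd_pow 2 hn2) _
    · have hc := PSL2.card_psl_mul (F := K)
      rw [Nat.card_eq_fintype_card (α := K)] at hc
      have hg2 : Nat.gcd 2 (Fintype.card K - 1) = 2 := Nat.gcd_eq_left (by omega)
      rw [hg2, hr, show (2 * r + 1 + 1) * (2 * r + 1 - 1) = 4 * ((r + 1) * r) by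
        rw [show 2 * r + 1 - 1 = 2 * r by omega]; ring] at hc
      obtain ⟨s, hs⟩ := even_iff_two_dvd.1 (Nat.even_mul_succ_self r)
      rw [mul_comm (r + 1) r, hs] at hc
      exact Dvd.intro ((2 * r + 1) * s) (by linarith)
  rcases small_cases hna S (hab' S) hSE with ⟨L, _, _, hL, ⟨φ⟩⟩ | hE
  · exfalso
    have hodd : Odd (Nat.card L) := by rw [Nat.card_eq_fintype_card, Nat.odd_iff]; omega
    have hG := PSLClassSizes.card_psl_odd hodd
    rw [← Nat.card_congr φ.toEquiv, Nat.card_eq_fintype_card (α := L)] at hG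
    obtain ⟨k, hk⟩ := h8.trans (card_subgroup_dvd_card (centralizer ({t} : Set G)))
    have key : ∀ x : ZMod 16, x.val % 8 = 3 ∨ x.val % 8 = 5 → x ^ 3 ≠ x := by decide
    refine key (Fintype.card L : ZMod 16) (by rw [ZMod.val_natCast]; omega) ?_
    have h3 := congrArg (Nat.cast : ℕ → ZMod 16) hG
    rw [hk] at h3
    push_cast at h3
    rw [← mul_assoc, show (2 * 8 : ZMod 16) = 0 by decide, zero_mul, zero_add] at h3
    exact h3.symm
  · by_cases h3 : Fintype.card K = 3
    · -- all centralisers of involutions are soluble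
      exfalso
      have hsol : Group.IsSolvable ↥(centralizer ({t} : Set G)) := by
        obtain ⟨e'⟩ := hCK
        obtain ⟨ψ'⟩ := Linear.nonempty_pslTwo_three (F := K) (by rw [Nat.card_eq_fintype_card, h3])
        haveI : Group.IsSolvable (Multiplicative (ZMod 2) × alternatingGroup (Fin 4)) :=
          PSL2.isSolvable_of_card_two_three (by
            rw [Nat.card_prod, nat_card_alternatingGroup]; simp [Nat.factorial])
        exact Group.isSolvable_of_isSolvable_injective
          (f := (e'.trans ((MulEquiv.refl _).prodCongr ψ')).toMonoidHom)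
          (e'.trans ((MulEquiv.refl _).prodCongr ψ')).injective
      have hall : ∀ w : G, orderOf w = 2 → Group.IsSolvable ↥(centralizer ({w} : Set G)) := fun w hw => by
        by_contra hns
        exact hE.not_solvable_centralizer hw ht hns hsol
      refine hE.notSE ⟨_, AbelianSylowTwo.isStronglyEmbedded_normalizer S (hab' S) (two_dvd hna) ?_ fun w hw hwS =>
        AbelianSylowTwo.centralizer_le_normalizer S (hab' S) hall (cores_of_solvable hE hall) hw hwS⟩
      intro htop
      haveI := normalizer_eq_top_iff.1 htop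
      rcases (inferInstance : (S : Subgroup G).Normal).eq_bot_or_eq_top with hb | hb
      · have := (hE.sylow S).2
        rw [hb, card_bot] at this
        omega
      · exact hna ⟨⟨fun x y => congrArg Subtype.val
          ((hab' S).is_comm.comm ⟨x, hb ▸ mem_top x⟩ ⟨y, hb ▸ mem_top y⟩)⟩⟩
    · rcases Nat.even_or_odd (Fintype.card K) with hev | hodd
      · exfalso
        obtain ⟨n, hn2, hn⟩ := exists_two_pow hqK hev
        have hn3 : 3 ≤ n := by
          by_contra hlt
          exact h45 (Or.inl (by rw [← hK, hn, show n = 2 by omega]; rfl))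
        obtain ⟨e'⟩ := hCK
        have h16 : 16 ∣ Nat.card ↥(centralizer ({t} : Set G)) := by
          rw [Nat.card_congr e'.toEquiv, Nat.card_prod,
            show Nat.card (Multiplicative (ZMod 2)) = 2 by simp, card_psl_two_pow hn, show 16 = 2 * 2 ^ 3 from rfl]
          exact Nat.mul_dvd_mul_left 2 (dvd_mul_of_dvd_left (pow_dvd_pow 2 hn3) _)
        have := h16.trans (card_subgroup_dvd_card _)
        have := AbelianSylowUse.card_mod_sixteen S (hE.sylow S).2
        omega
      · have hmod : Fintype.card K % 8 = 3 ∨ Fintype.card K % 8 = 5 := by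
          rw [← Nat.card_eq_fintype_card]
          refine PSL2.mod_eight_of_comm (by rwa [Nat.card_eq_fintype_card]) fun R => ?_
          obtain ⟨e'⟩ := hCK
          let ι : Matrix.ProjectiveSpecialLinearGroup (Fin 2) K →* G :=
            (centralizer ({t} : Set G)).subtype.comp (e'.symm.toMonoidHom.comp (MonoidHom.inr _ _))
          have hι : Function.Injective ι := (centralizer ({t} : Set G)).subtype_injective.comp
            (e'.symm.injective.comp fun a b h => (Prod.mk.inj h).2)
          obtain ⟨Q, hQ⟩ := (R.2.map ι).exists_le_sylow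
          refine ⟨⟨fun a b => Subtype.ext (hι ?_)⟩⟩
          simpa using congrArg Subtype.val
            ((hab' Q).is_comm.comm ⟨_, hQ (mem_map_of_mem ι a.2)⟩ ⟨_, hQ (mem_map_of_mem ι b.2)⟩)
        have hJ : JTData G t K :=
          ⟨inferInstance, hna, hE.sylow, ht, by omega, hmod, hCK⟩
        rcases hB G t K hJ with h5 | ⟨m, hm, hm'⟩
        · omega
        · exact Or.inl ⟨m, hm, by rw [← hK, hm'], hC' G t K hJ m hm hm'⟩

end Cfsg.Agent.AbelianSylow
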