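import Cfsg.Agent.EqLemmas
import Cfsg.Agent.Lib.AbelianSylow.Walter
import Cfsg.Agent.S1644

/-!
# The case `q = 5` up to isomorphism (owner: helper63)

Separate from `Walter.lean`: the uniqueness theorem S1644 has an expensive closure.

* `jt_five`          : `q = 5` gives `J₁`
* `reeType_or_j1_of` : `Elem8` from parts (a), (b)
-/

set_option autoImplicit false
set_option linter.style.haveILetI false

namespace Cfsg.Agent.AbelianSylow

open Subgroup

universe u

variable {G : Type u} [Group G] [Finite G]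

/-- `q = 5`: the smallest Janko group. -/
theorem jt_five {t : G} {F : Type} [Field F] [Fintype F] (hJ : JTData G t F) (h5 : Fintype.card F = 5) :
    Cfsg.IsJ1 G ∧ Cfsg.Spor.IsoJ1 G := by
  haveI := hJ.simple
  have hab : ∀ P : Sylow 2 G, IsMulCommutative (P : Subgroup G) := fun P => (hJ.sylow P).1.1
  obtain ⟨e⟩ := cent_altFive (Or.inr h5) hJ.cent
  obtain ⟨S⟩ : Nonempty (Sylow 2 G) := inferInstance
  exact ⟨S0448.result t (two_central hab hJ.invol) e,
    S1644.result S (hab S) (hJ.sylow S).2 t hJ.invol e⟩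

/-- `Elem8` from parts (a) and (b). -/
theorem reeType_or_j1_of (hA : CentTarget.{u}) (hB : ThreeTarget.{u}) (h : Elem8 G) :
    Cfsg.IsReeType G ∨ Cfsg.Spor.IsoJ1 G := by
  obtain ⟨t, F, iF, iF', hJ⟩ := hA G h
  rcases hB G t F hJ with h5 | ⟨m, hm, hF⟩
  · exact Or.inr (jt_five hJ h5).2
  · exact Or.inl (jt_reeType hJ hm hF)

end Cfsg.Agent.AbelianSylow
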