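import Cfsg.Agent.EqLemmas
import Cfsg.Agent.Lib.AbelianSylow.Chars.SecExists
import Cfsg.Agent.Lib.AbelianSylow.Chars.Theta
import Cfsg.Agent.Lib.AbelianSylow.Chars.TorInd
import Cfsg.Agent.Lib.AbelianSylow.Chars.Coeff
import Cfsg.Agent.Lib.AbelianSylow.ReeSylow.Ext

/-!
# The Sylow 3-subgroups of a group of Ree type are not abelian (owner: helper56)

With abelian Sylow 3-subgroups `twInd t U ψ = Φ⁺ - Φ⁻` for disjoint characters of norm `2 a`. Their
products with the functions of the `t`-section give a vector of norm `-2`.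

* `ree_sylow_three_not_comm`
-/

set_option autoImplicit false
set_option linter.unusedSectionVars false
set_option linter.style.haveILetI false

namespace Cfsg.Agent.AbelianSylow.ReeSylow

open Subgroup Chars ReeInverted Matrix
open scoped ComplexConjugate

universe u

section vectors

variable {X : Type*} [Fintype X] [DecidableEq X]

/-- Disjoint non-negative vectors do not both meet a unit. -/
theorem unit_disjoint {c d e : X → ℤ} (hc : ∀ x, 0 ≤ c x) (hd : ∀ x, 0 ≤ d x) (h : c ⬝ᵥ d = 0)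
    (he : e ⬝ᵥ e = 1) : c ⬝ᵥ e = 0 ∨ d ⬝ᵥ e = 0 := by
  obtain ⟨x, σ, hσ, rfl⟩ := Vec.unit_eq he
  rw [dotProduct_single, dotProduct_single]
  have hx : c x * d x = 0 :=
    (Finset.sum_eq_zero_iff_of_nonneg (fun y _ => mul_nonneg (hc y) (hd y))).1 h x (Finset.mem_univ x)
  rcases mul_eq_zero.1 hx with e | e
  · exact Or.inl (by rw [e, zero_mul])
  · exact Or.inr (by rw [e, zero_mul])

/-- The final contradiction: a vector of norm `-2`. -/
theorem no_vec {c W S g : X → ℤ} {a : ℤ} (hc : c ⬝ᵥ c = 2 * a) (hW : W ⬝ᵥ W = 2)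
    (hS : S ⬝ᵥ S = 2 * (a - 1)) (hg : g ⬝ᵥ g = 2) (hcW : c ⬝ᵥ W = 2) (hcS : c ⬝ᵥ S = -2 * (a - 1))
    (hcg : c ⬝ᵥ g = 1) (hWS : W ⬝ᵥ S = 0) (hgS : g ⬝ᵥ S = 0) (hgW : g ⬝ᵥ W = 0) : False := by
  obtain ⟨v, hv⟩ : ∃ v : X → ℤ, v = (2 : ℤ) • c + (2 : ℤ) • S - (2 : ℤ) • W - g := ⟨_, rfl⟩
  have h : v ⬝ᵥ v = -2 := by
    simp only [hv, sub_dotProduct, dotProduct_sub, add_dotProduct, dotProduct_add, smul_dotProduct,
      dotProduct_smul, smul_eq_mul, dotProduct_comm S c, dotProduct_comm W c, dotProduct_comm g c,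
      dotProduct_comm S W, dotProduct_comm S g, dotProduct_comm W g, hc, hW, hS, hg, hcW, hcS, hcg, hWS,
      hgS, hgW]
    ring
  have := Vec.dot_self_nonneg v
  omega

end vectors

variable {G : Type u} [Group G] [Fintype G]

/-- A linear character of a group of odd order equal to its inverse is trivial. -/
theorem hom_eq_one_of_eq_inv {H : Subgroup G} (hodd : Odd (Nat.card H)) {l : ↥H →* ℂˣ} (h : l = l⁻¹) :
    l = 1 := by
  refine MonoidHom.ext fun x => ?_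
  have h2 : l x * l x = 1 := by
    nth_rewrite 1 [h]
    rw [MonoidHom.inv_apply, inv_mul_cancel]
  have hc : l x ^ Nat.card H = 1 := by rw [← map_pow, pow_card_eq_one', map_one]
  obtain ⟨j, hj⟩ := hodd
  rwa [hj, pow_succ, pow_mul, pow_two, h2, one_pow, one_mul] at hc

variable {t i r w : G} {K U A T P : Subgroup G} {q k a M : ℕ} {Q : ℤ}

theorem four_a (S : Sec t i r w K U A T q a M Q) (H : Hyp q k Q G) : 4 * a = q + 1 := by
  have h := S.four_a; have h' := H.plus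
  omega

/-- `fMinus` vanishes off the elements of exponent `2 a`. -/
theorem fMinus_vanish (S : Sec t i r w K U A T q a M Q) (l : ↥A →* ℂˣ) {g : G} (hg : g ^ (2 * a) ≠ 1) :
    fMinus t i a l g = 0 := by
  refine mul_eq_zero_of_right _ (Finset.sum_eq_zero fun y _ => Char.extendByZero_not_mem _ _ fun hm => hg ?_)
  obtain ⟨p, x, hx, e⟩ := S.mem_torH.1 hm
  have h1 : (y⁻¹ * g * y) ^ (2 * a) = 1 := by
    rw [e, (S.comm_four hx p).mul_pow, mul_comm 2 a, pow_mul, pow_mul, S.fourElt_pow, pow_two,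
      S.fourElt_sq, S.pow_a hx, one_pow, one_mul]
  have h2 := conj_pow (a := y⁻¹) (b := g) (i := 2 * a)
  rw [inv_inv, h1] at h2
  have h3 := h2.symm
  rwa [mul_eq_one_iff_eq_inv, mul_eq_left] at h3

/-- The contradiction. -/
theorem false_of_hyp (S : Sec t i r w K U A T q a M Q) (H : Hyp q k Q G) : False := by
  classical
  letI : Fintype (IrrCharacter G) := Fintype.ofFinite _
  haveI : Finite (↥A →* ℂˣ) := Nat.finite_of_card_ne_zero (by
    rw [ReeCover.card_dual S.A_comm]; exact Nat.card_pos.ne')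
  haveI : Finite (↥T →* ℂˣ) := Nat.finite_of_card_ne_zero (by
    rw [ReeCover.card_dual S.T_comm]; exact Nat.card_pos.ne')
  letI : Fintype (↥A →* ℂˣ) := Fintype.ofFinite _
  letI : Fintype (↥T →* ℂˣ) := Fintype.ofFinite _
  have hAD : Fintype.card (↥A →* ℂˣ) = a := by
    rw [← Nat.card_eq_fintype_card, ReeCover.card_dual S.A_comm, S.card_A]
  have hTD : Fintype.card (↥T →* ℂˣ) = M := by
    rw [← Nat.card_eq_fintype_card, ReeCover.card_dual S.T_comm, S.card_T]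
  have ha6 := S.three_le_a
  have h4a := four_a S H
  obtain ⟨l₀, hl₀⟩ := Fintype.exists_ne_of_one_lt_card (by rw [hAD]; omega) (1 : ↥A →* ℂˣ)
  obtain ⟨m₀, hm₀⟩ := Fintype.exists_ne_of_one_lt_card
    (by rw [hTD]; have := S.three_le_M; omega) (1 : ↥T →* ℂˣ)
  obtain ⟨P, B⟩ := exists_borel S H
  obtain ⟨ψ, PP⟩ := S.exists_psiPair
  obtain ⟨F₁, F₂, Ψ, hF₁, hF₂, hΨ, hsplit, hnorm, hsupp, horth⟩ := exists_split S B H.order (PP.ne_one 0)
  set tw := twInd t U (lin (ψ 0)) with htw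
  have gtw : IsGeneralizedCharacter G tw := S.twInd_lin_isGen S.U_le _
  have g1 := Char.isGeneralizedCharacter_of_isCharacter hF₁
  have g2 := Char.isGeneralizedCharacter_of_isCharacter hF₂
  have gΨ := Char.isGeneralizedCharacter_of_isCharacter hΨ
  -- the products with `Φ⁺, Φ⁻`
  have hsum : ∀ {f : G → ℂ}, IsGeneralizedCharacter G f →
      cvec F₁ ⬝ᵥ cvec f + cvec F₂ ⬝ᵥ cvec f = cvec Ψ ⬝ᵥ cvec f ∧
      cvec F₁ ⬝ᵥ cvec f - cvec F₂ ⬝ᵥ cvec f = cvec tw ⬝ᵥ cvec f := by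
    intro f hf
    obtain ⟨h1, h2⟩ := hsplit f (Char.IsGeneralizedCharacter.isClassFunction hf)
    rw [cvec_inner g1 hf, cvec_inner g2 hf, cvec_inner gΨ hf] at h1
    rw [cvec_inner g1 hf, cvec_inner g2 hf, cvec_inner gtw hf] at h2
    exact ⟨by exact_mod_cast h1, by exact_mod_cast h2⟩
  have toInt : ∀ {f f' : G → ℂ}, IsGeneralizedCharacter G f → IsGeneralizedCharacter G f' → ∀ n : ℤ,
      classInner f f' = (n : ℂ) → cvec f ⬝ᵥ cvec f' = n := by
    intro f f' hf hf' n h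
    rw [cvec_inner hf hf'] at h
    exact_mod_cast h
  have hq : (q : ℂ) ≠ 0 := Nat.cast_ne_zero.2 S.q_pos.ne'
  have hQ : (q : ℂ)⁻¹ * (Q : ℂ) = 1 := by rw [H.plus, Int.cast_natCast, inv_mul_cancel₀ hq]
  have hqa : (q : ℂ) + 1 = ((4 * a : ℤ) : ℂ) := by
    have : ((4 * a : ℕ) : ℂ) = ((q + 1 : ℕ) : ℂ) := congrArg _ h4a
    push_cast at this ⊢
    exact this.symm
  have tt' : cvec tw ⬝ᵥ cvec tw = 4 * a := toInt gtw gtw _ (by
    rw [htw, S.inner_psi_psi PP, if_pos rfl, hqa])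
  have pp' : cvec Ψ ⬝ᵥ cvec Ψ = 4 * a := toInt gΨ gΨ _ (hnorm.trans hqa)
  have tp' : cvec tw ⬝ᵥ cvec Ψ = 0 := toInt gtw gΨ 0 (by rw [horth, Int.cast_zero])
  obtain ⟨n1a, n1b⟩ := hsum g1
  obtain ⟨n2a, n2b⟩ := hsum g2
  obtain ⟨nta, ntb⟩ := hsum gtw
  obtain ⟨npa, npb⟩ := hsum gΨ
  rw [dotProduct_comm (cvec F₂) (cvec F₁), dotProduct_comm (cvec Ψ)] at n1a
  rw [dotProduct_comm (cvec F₂) (cvec F₁), dotProduct_comm (cvec tw)] at n1b
  rw [dotProduct_comm (cvec Ψ)] at n2a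
  rw [dotProduct_comm (cvec tw)] at n2b
  rw [dotProduct_comm (cvec Ψ) (cvec tw)] at nta
  have h11 : cvec F₁ ⬝ᵥ cvec F₁ = 2 * a := by omega
  have h22 : cvec F₂ ⬝ᵥ cvec F₂ = 2 * a := by omega
  have h12 : cvec F₁ ⬝ᵥ cvec F₂ = 0 := by omega
  have hnn : ∀ {f : G → ℂ}, IsCharacter G f → ∀ χ, 0 ≤ cvec f χ := by
    intro f hf χ
    obtain ⟨n, hn⟩ := Char.IsCharacter.classInner_nat hf (Char.IsIrrCharacter.isCharacter χ.2)
    rw [cvec_spec (Char.isGeneralizedCharacter_of_isCharacter hf) χ] at hn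
    have : cvec f χ = (n : ℤ) := by exact_mod_cast hn
    omega
  -- the products with the functions of the section
  have hodd : ∀ x ∈ P, Odd (orderOf x) := fun x hx =>
    S.odd_q.pow.of_dvd_nat (B.card ▸ Subgroup.orderOf_dvd_natCard P hx)
  have hcop : Nat.Coprime (2 * a) q :=
    Nat.Coprime.mul_left (Nat.coprime_two_left.2 S.odd_q) S.coprime_qa.symm
  have hF0P : ∀ (l : ↥A →* ℂˣ), ∀ x ∈ P, fMinus t i a l x = 0 := fun l x hx => by
    by_cases h : x ^ (2 * a) = 1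
    · have h1 : x = 1 := orderOf_eq_one_iff.1 (Nat.eq_one_of_dvd_coprimes (hcop.pow_right 3)
        (orderOf_dvd_of_pow_eq_one h) (orderOf_dvd_of_pow_eq_one (B.pow_card hx)))
      rw [h1]; exact S.fMinus_one l
    · exact fMinus_vanish S l h
  have hF0U : ∀ (l : ↥A →* ℂˣ) (v : ↥U), fMinus t i a l (t * v) = 0 := fun l v => by
    by_cases h : (t * (v : G)) ^ (2 * a) = 1
    · rw [(S.comm_K v (S.U_le v.2)).mul_pow, pow_mul t, pow_two, S.tt, one_pow, one_mul] at h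
      have h1 : (v : G) = 1 := orderOf_eq_one_iff.1 (Nat.eq_one_of_dvd_coprimes hcop
        (orderOf_dvd_of_pow_eq_one h) (orderOf_dvd_of_pow_eq_one (S.U_pow v.2)))
      rw [h1, mul_one]; exact S.fMinus_t l
    · exact fMinus_vanish S l h
  set f := fun l : ↥A →* ℂˣ => cvec (fMinus t i a l) with hf
  have gf : ∀ l : ↥A →* ℂˣ, IsGeneralizedCharacter G (fMinus t i a l) := fun l => S.fMinus_isGen l
  have cf : ∀ l, cvec F₁ ⬝ᵥ f l = 0 ∧ cvec F₂ ⬝ᵥ f l = 0 := fun l => by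
    obtain ⟨h1, h2⟩ := hsum (gf l)
    have h3 : cvec Ψ ⬝ᵥ f l = 0 := toInt gΨ (gf l) 0 (by
      rw [hsupp _ (S.fMinus_class l) (hF0P l), Int.cast_zero])
    have h4 : cvec tw ⬝ᵥ f l = 0 := toInt gtw (gf l) 0 (by
      letI : Fintype U := Fintype.ofFinite U
      rw [htw, twInd_inner S.tt _ _ (S.fMinus_class l), Int.cast_zero]
      refine mul_eq_zero_of_right _ (Finset.sum_eq_zero fun v _ => ?_)
      rw [hF0U, map_zero, mul_zero])
    simp only [hf] at h3 h4 ⊢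
    omega
  have gδ : IsGeneralizedCharacter G (thetaA t ψ l₀) := S.thetaA_isGen l₀
  have gg : IsGeneralizedCharacter G (thetaT t ψ m₀) := S.thetaT_isGen m₀
  obtain ⟨δ, hδ⟩ : ∃ δ, δ = cvec (thetaA t ψ l₀) := ⟨_, rfl⟩
  obtain ⟨g, hg⟩ : ∃ g, g = cvec (thetaT t ψ m₀) := ⟨_, rfl⟩
  have cδ : cvec F₁ ⬝ᵥ δ = 2 ∧ cvec F₂ ⬝ᵥ δ = -2 := by
    obtain ⟨h1, h2⟩ := hsum gδ
    have h3 : cvec Ψ ⬝ᵥ cvec (thetaA t ψ l₀) = 0 := toInt gΨ gδ 0 (by
      rw [hsupp _ (S.thetaA_class l₀) fun x hx => S.thetaA_odd l₀ (hodd x hx), Int.cast_zero])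
    have h4 : cvec tw ⬝ᵥ cvec (thetaA t ψ l₀) = 4 := toInt gtw gδ 4 (by
      rw [htw, S.twU_thetaA PP (PP.ne_one 0), hQ, mul_one]; norm_num)
    rw [hδ]; omega
  have cg : cvec F₁ ⬝ᵥ g = 1 ∧ cvec F₂ ⬝ᵥ g = -1 := by
    obtain ⟨h1, h2⟩ := hsum gg
    have h3 : cvec Ψ ⬝ᵥ cvec (thetaT t ψ m₀) = 0 := toInt gΨ gg 0 (by
      rw [hsupp _ (S.thetaT_class m₀) fun x hx => S.thetaT_odd m₀ (hodd x hx), Int.cast_zero])
    have h4 : cvec tw ⬝ᵥ cvec (thetaT t ψ m₀) = 2 := toInt gtw gg 2 (by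
      rw [htw, S.twU_thetaT PP (PP.ne_one 0), hQ, mul_one]; norm_num)
    rw [hg]; omega
  -- the functions of the section among themselves
  have hdeg : ∀ χ : IrrCharacter G, 0 < degv G χ := degv_pos
  have hne : ∀ {l : ↥A →* ℂˣ}, l ≠ 1 → l ≠ l⁻¹ := fun hl e => hl (S.eq_one_of_eq_inv e)
  have hff : ∀ {l m : ↥A →* ℂˣ}, l ≠ 1 → m ≠ 1 →
      f l ⬝ᵥ f m = 2 + (if l = m then 1 else 0) + (if l = m⁻¹ then 1 else 0) := by
    intro l m hl hm
    refine toInt (gf l) (gf m) _ ((S.fMinus_inner hl hm).trans ?_)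
    push_cast; ring
  have hrne : ∀ j : ℕ, S.rot j l₀ ≠ 1 := fun j e => hl₀ (S.rot_inj j (e.trans (S.rot_one j).symm))
  have hind : ∀ j' k' : ℕ, j' < 3 → k' < 3 →
      (if S.rot j' l₀ = S.rot k' l₀ then (1 : ℤ) else 0) +
        (if S.rot j' l₀ = (S.rot k' l₀)⁻¹ then (1 : ℤ) else 0) = if j' = k' then 1 else 0 := by
    intro j' k' hj' hk'
    by_cases h : j' = k'
    · subst h
      rw [if_pos rfl, if_neg (hne (hrne j')), if_pos rfl, add_zero]
    · rw [if_neg fun e => h (S.rot_distinct hl₀ hj' hk' (Or.inl e)).1,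
        if_neg fun e => h (S.rot_distinct hl₀ hj' hk' (Or.inr e)).1, if_neg h, add_zero]
  set fo := fun j : Fin 3 => f (S.rot (j : ℕ) l₀) with hfo
  have hfoff : ∀ j k' : Fin 3, fo j ⬝ᵥ fo k' = if j = k' then 3 else 2 := fun j k' => by
    simp only [hfo]
    rw [hff (hrne _) (hrne _), add_assoc, hind _ _ j.2 k'.2]
    by_cases h : j = k'
    · rw [if_pos h, if_pos (congrArg Fin.val h)]; rfl
    · rw [if_neg h, if_neg fun e => h (Fin.ext e)]; rfl
  have hfd : ∀ l, degv G ⬝ᵥ f l = 0 := fun l => cvec_deg (gf l) (S.fMinus_one l)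
  have hfδ : ∀ j : Fin 3, fo j ⬝ᵥ δ = if j = 0 then 1 else -1 := fun j => by
    rw [hδ]
    refine toInt (gf _) gδ _ ?_
    rw [S.fMinus_inner_lin _ hl₀ (S.thetaA_class l₀)
      (fun x hx => S.thetaA_odd l₀ (S.odd_a.of_dvd_nat (S.card_A ▸ Subgroup.orderOf_dvd_natCard A hx)))
      (fun x hx => (S.thetaA_A l₀ x.2 hx).trans rfl)]
    have e0 := hind j 0 j.2 (by norm_num)
    have e1 := hind j 1 j.2 (by norm_num)
    have e2 := hind j 2 j.2 (by norm_num)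
    rw [S.rot_zero] at e0
    have e0' := congrArg (Int.cast : ℤ → ℂ) e0
    have e1' := congrArg (Int.cast : ℤ → ℂ) e1
    have e2' := congrArg (Int.cast : ℤ → ℂ) e2
    push_cast at e0' e1' e2'
    rw [e0', e1', e2']
    fin_cases j <;> norm_num
  have hδδ : δ ⬝ᵥ δ = 4 := by
    rw [hδ]
    refine toInt gδ gδ 4 ?_
    rw [S.inner_thetaA_thetaA PP, if_pos rfl, if_neg (hne hl₀)]
    norm_num
  have hδd : degv G ⬝ᵥ δ = 0 := by
    rw [hδ]; exact cvec_deg gδ (S.thetaA_odd l₀ (by rw [orderOf_one]; exact odd_one))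
  obtain ⟨W, Y, Z, D, O⟩ := Vec.exists_orbit hdeg hfoff (fun j => hfd _) hδδ hδd
    (by rw [hfδ, if_pos rfl]) (by rw [hfδ, if_neg (by decide)]) (by rw [hfδ, if_neg (by decide)])
  have hWfo : ∀ j, W ⬝ᵥ fo j = 2 := fun j => by
    rw [O.f_eq j, dotProduct_add, O.norm_W, O.W_Y, add_zero]
  have hff3 : ∀ {l : ↥A →* ℂˣ}, l ≠ 1 → f l ⬝ᵥ f l = 3 := fun hl => by
    rw [hff hl hl, if_pos rfl, if_neg (hne hl)]; norm_num
  have hfW : ∀ l : ↥A →* ℂˣ, l ≠ 1 → W ⬝ᵥ f l = 2 := fun l hl => by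
    by_cases h : ∃ j : Fin 3, l = S.rot (j : ℕ) l₀ ∨ l = (S.rot (j : ℕ) l₀)⁻¹
    · obtain ⟨j, hj⟩ := h
      rw [← hWfo j]
      congr 1
      rcases hj with e | e
      · rw [e]
      · have h3 : f l ⬝ᵥ f (S.rot (j : ℕ) l₀) = 3 := by
          rw [hff hl (hrne _), if_pos e, if_neg fun e' => hne (hrne (j : ℕ)) (e'.symm.trans e)]
          norm_num
        refine sub_eq_zero.1 (Vec.eq_zero ?_)
        rw [sub_dotProduct, dotProduct_sub, dotProduct_sub,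
          dotProduct_comm (f (S.rot (j : ℕ) l₀)) (f l), hff3 hl, hff3 (hrne _), h3]
        norm_num
    · push Not at h
      rw [dotProduct_comm]
      refine (Vec.orbit_next O (hff3 hl) (fun j => ?_) (hfd l)).1
      show f l ⬝ᵥ f (S.rot (j : ℕ) l₀) = 2
      rw [hff hl (hrne _), if_neg (h j).1, if_neg (h j).2]; norm_num
  -- `g` is orthogonal to the orbits
  have hgg : g ⬝ᵥ g = 2 := by
    rw [hg]
    refine toInt gg gg 2 ?_
    rw [S.inner_thetaT_thetaT PP, if_pos rfl,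
      if_neg fun e => hm₀ (hom_eq_one_of_eq_inv (S.card_T ▸ S.odd_M) e)]
    norm_num
  have hgf : ∀ l : ↥A →* ℂˣ, l ≠ 1 → g ⬝ᵥ f l = 0 := fun l hl => by
    rw [dotProduct_comm, hg]
    refine toInt (gf l) gg 0 ?_
    rw [S.fMinus_inner_const hl (S.thetaT_class m₀)
      (fun x hx => S.thetaT_odd m₀ (S.odd_a.of_dvd_nat (S.card_A ▸ Subgroup.orderOf_dvd_natCard A hx))) 0
      (fun x hx => by rw [S.thetaT_A m₀ x.2 hx, Complex.ofReal_zero])]
    simp
  have hgδ : g ⬝ᵥ δ = 0 := by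
    rw [hg, hδ]
    exact toInt gg gδ 0 (by rw [S.inner_thetaT_thetaA PP, Int.cast_zero])
  have hgW : g ⬝ᵥ W = 0 :=
    (Vec.orbit_disjoint hdeg O (g := g) (c := 0) (by omega) (Or.inl (by omega))
      (fun j => hgf _ (hrne _)) hgδ).2.2
  -- the sum over all orbits
  set s : Finset (↥A →* ℂˣ) := Finset.univ.erase 1 with hs
  have hmem : ∀ l, l ∈ s ↔ l ≠ 1 := fun l => by simp [hs]
  have hscard : (s.card : ℤ) = (a : ℤ) - 1 := by
    rw [hs, Finset.card_erase_of_mem (Finset.mem_univ _), Finset.card_univ, hAD]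
    omega
  obtain ⟨S', hS'⟩ : ∃ S' : IrrCharacter G → ℤ, S' = ∑ l ∈ s, (f l - W) := ⟨_, rfl⟩
  have hWS : W ⬝ᵥ S' = 0 := by
    rw [hS', dotProduct_sum]
    exact Finset.sum_eq_zero fun l hl => by
      rw [dotProduct_sub, hfW l ((hmem l).1 hl), O.norm_W, sub_self]
  have hgS : g ⬝ᵥ S' = 0 := by
    rw [hS', dotProduct_sum]
    exact Finset.sum_eq_zero fun l hl => by
      rw [dotProduct_sub, hgf l ((hmem l).1 hl), hgW, sub_self]
  have hcS : ∀ c : IrrCharacter G → ℤ, (∀ l, c ⬝ᵥ f l = 0) → c ⬝ᵥ S' = -((a : ℤ) - 1) * (c ⬝ᵥ W) := by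
    intro c hc
    rw [hS', dotProduct_sum, Finset.sum_congr rfl fun l _ => by rw [dotProduct_sub, hc, zero_sub],
      Finset.sum_const, nsmul_eq_mul, hscard]
    ring
  have hSS : S' ⬝ᵥ S' = 2 * ((a : ℤ) - 1) := by
    have hin : ∀ l ∈ s, (f l - W) ⬝ᵥ S' = 2 := fun l hl => by
      have hl' := (hmem l).1 hl
      have hli : l⁻¹ ∈ s := (hmem _).2 (S.dual_inv_ne hl')
      have e : ∀ m ∈ s, (f l - W) ⬝ᵥ (f m - W) = (if l = m then 1 else 0) + (if l⁻¹ = m then 1 else 0) :=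
        fun m hm => by
          have hm' := (hmem m).1 hm
          rw [sub_dotProduct, dotProduct_sub, dotProduct_sub, hff hl' hm', dotProduct_comm (f l) W, hfW l hl',
            hfW m hm', O.norm_W,
            if_congr (⟨fun e => by rw [e, S.dual_inv_inv], fun e => by rw [← e, S.dual_inv_inv]⟩ :
              l = m⁻¹ ↔ l⁻¹ = m) rfl rfl]
          ring
      rw [hS', dotProduct_sum, Finset.sum_congr rfl e, Finset.sum_add_distrib, Finset.sum_ite_eq,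
        Finset.sum_ite_eq, if_pos hl, if_pos hli]
      norm_num
    nth_rewrite 1 [hS']
    rw [sum_dotProduct, Finset.sum_congr rfl hin, Finset.sum_const, nsmul_eq_mul, hscard]
    ring
  -- the products with the orbit
  have hcY : ∀ c : IrrCharacter G → ℤ, (∀ l, c ⬝ᵥ f l = 0) →
      c ⬝ᵥ Y 0 = -(c ⬝ᵥ W) ∧ c ⬝ᵥ Z = c ⬝ᵥ δ - (c ⬝ᵥ W) := by
    intro c hc
    have hy : ∀ j, c ⬝ᵥ Y j = -(c ⬝ᵥ W) := fun j => by
      have := hc (S.rot (j : ℕ) l₀)
      rw [show f (S.rot (j : ℕ) l₀) = W + Y j from O.f_eq j, dotProduct_add] at this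
      omega
    refine ⟨hy 0, ?_⟩
    rw [O.δ_eq, dotProduct_add, dotProduct_sub, dotProduct_sub, hy, hy, hy]
    ring
  obtain ⟨y1, z1⟩ := hcY _ fun l => (cf l).1
  obtain ⟨y2, z2⟩ := hcY _ fun l => (cf l).2
  have hw : cvec F₁ ⬝ᵥ W = 2 ∨ cvec F₂ ⬝ᵥ W = -2 := by
    rcases unit_disjoint (hnn hF₁) (hnn hF₂) h12 (O.norm_Y 0) with e | e <;>
      rcases unit_disjoint (hnn hF₁) (hnn hF₂) h12 O.norm_P with e' | e' <;>
      obtain ⟨d1, d2⟩ := cδ <;> omega
  rcases hw with e | e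
  · exact no_vec (a := (a : ℤ)) h11 O.norm_W hSS hgg e
      (by rw [hcS _ fun l => (cf l).1, e]; ring) cg.1 hWS hgS hgW
  · exact no_vec (c := -cvec F₂) (a := (a : ℤ)) (by rw [neg_dotProduct, dotProduct_neg, neg_neg, h22])
      O.norm_W hSS hgg (by rw [neg_dotProduct, e, neg_neg])
      (by rw [neg_dotProduct, hcS _ fun l => (cf l).2, e]; ring)
      (by rw [neg_dotProduct, cg.2, neg_neg]) hWS hgS hgW

end Cfsg.Agent.AbelianSylow.ReeSylow

namespace Cfsg.Agent.AbelianSylow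

open Cfsg Subgroup

universe u

variable {G : Type u} [Group G] [Finite G] {t : G} {F : Type} [Field F] [Fintype F]

/-- A group of Ree type does not have abelian Sylow 3-subgroups. -/
theorem ree_sylow_three_not_comm (hJ : JTData G t F) {m : ℕ} (hm : 1 ≤ m)
    (hF : Fintype.card F = 3 ^ (2 * m + 1))
    (hcard : Nat.card G =
      (3 ^ (2 * m + 1)) ^ 3 * ((3 ^ (2 * m + 1)) ^ 3 + 1) * (3 ^ (2 * m + 1) - 1))
    (P : Sylow 3 G) : ¬ IsMulCommutative (P : Subgroup G) := by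
  classical
  intro hab
  haveI : Fact (Nat.Prime 3) := ⟨Nat.prime_three⟩
  letI : Fintype G := Fintype.ofFinite G
  have h27 : 25 ≤ Fintype.card F := by
    rw [hF]
    exact le_trans (by norm_num) (Nat.pow_le_pow_right (by norm_num) (show 3 ≤ 2 * m + 1 by omega))
  obtain ⟨i, r, w, K, U, A, T, a, M, Q, S, hQ, -⟩ := Chars.exists_sec' hJ h27
  have h8 : Fintype.card F % 8 = 3 := by
    rw [hF, pow_succ, pow_mul, Nat.mul_mod, Nat.pow_mod]
    norm_num
  refine ReeSylow.false_of_hyp (k := 2 * m + 1) S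
    { pow := hF
      plus := hQ h8
      order := by rw [hF, hcard, mul_assoc]
      abelian := fun R x hx y hy => ?_ }
  obtain ⟨c, hc⟩ := MulAction.exists_smul_eq G R P
  have hmap : ∀ z ∈ (R : Subgroup G), c * z * c⁻¹ ∈ (P : Subgroup G) := fun z hz => by
    rw [← hc, Sylow.coe_subgroup_smul]
    exact mem_map.2 ⟨z, hz, rfl⟩
  have h : (⟨_, hmap x hx⟩ : (P : Subgroup G)) * ⟨_, hmap y hy⟩ =
      ⟨_, hmap y hy⟩ * ⟨_, hmap x hx⟩ := mul_comm' _ _
  have h' : c * x * c⁻¹ * (c * y * c⁻¹) = c * y * c⁻¹ * (c * x * c⁻¹) := congrArg Subtype.val h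
  rw [conj_mul, conj_mul] at h'
  exact mul_left_cancel (mul_right_cancel h')

end Cfsg.Agent.AbelianSylow
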