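import Cfsg.Agent.EqLemmas
import Cfsg.Agent.Lib.AbelianSylow.Janko
import Cfsg.Agent.Lib.AbelianSylow.Chars.Main
import Cfsg.Agent.Lib.AbelianSylow.ReeSylow
import Cfsg.Agent.Lib.MinNonCA.Setting

/-!
# Consumers needing only part (a) (owner: helper63)

* `walter_of_cent`  : `WalterStatement` (S0506)
* `all_abelian_of`  : simple groups with all Sylow subgroups abelian (S2554)
-/

set_option autoImplicit false
set_option linter.style.haveILetI false

namespace Cfsg.Agent.AbelianSylow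

open Subgroup

universe u

/-- Walter's theorem from part (a). -/
theorem walter_of_cent (hA : CentTarget.{u}) : AbelianSylowUse.WalterStatement.{u} :=
  walter_of hA Chars.threeTarget Chars.orderTarget

/-- S2554 from part (a). -/
theorem all_abelian_of (hA : CentTarget.{u}) {G : Type u} [Group G] [Finite G] [IsSimpleGroup G]
    (hna : ¬ IsMulCommutative G) (hab : ∀ (p : ℕ), p.Prime → ∀ (P : Sylow p G), IsMulCommutative ↥P) :
    Cfsg.Spor.IsoJ1 G ∨
      ∃ (F : Type) (_ : Field F) (_ : Fintype F), 3 < Fintype.card F ∧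
        (Fintype.card F % 8 = 0 ∨ Fintype.card F % 8 = 3 ∨ Fintype.card F % 8 = 5) ∧
        Nonempty (G ≃* Matrix.ProjectiveSpecialLinearGroup (Fin 2) F) := by
  obtain ⟨S⟩ : Nonempty (Sylow 2 G) := inferInstance
  rcases simple_cases hna S (hab 2 Nat.prime_two S) with ⟨a, ha, F, i1, i2, hF, ⟨e⟩⟩ | ⟨F, i1, i2, hF, he⟩ | h
  · right
    rcases (show a = 2 ∨ 3 ≤ a by omega) with rfl | h3
    · obtain ⟨f⟩ := Linear.nonempty_pslTwo_four (F := F) (by rw [Nat.card_eq_fintype_card, hF]; rfl)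
      haveI : Fact (Nat.Prime 5) := ⟨by norm_num⟩
      obtain ⟨g⟩ := Linear.nonempty_pslTwo_five (F := ZMod 5) (ZMod.card 5)
      exact ⟨ZMod 5, inferInstance, inferInstance, by rw [ZMod.card]; norm_num,
        Or.inr (Or.inr (by rw [ZMod.card])), ⟨e.trans (f.trans g.symm)⟩⟩
    · have h8 : 8 ∣ Fintype.card F := hF ▸ pow_dvd_pow 2 h3
      refine ⟨F, i1, i2, ?_, Or.inl (Nat.mod_eq_zero_of_dvd h8), ⟨e⟩⟩
      have := Nat.le_of_dvd Fintype.card_pos h8
      omega
  · exact Or.inr ⟨F, i1, i2, by omega, Or.inr hF.1, he⟩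
  · obtain ⟨t, F, iF, iF', hJ⟩ := hA G h
    rcases Chars.threeTarget G t F hJ with h5 | ⟨m, hm, hF⟩
    · exact Or.inl (jt_five hJ h5).2
    · haveI : Fact (Nat.Prime 3) := ⟨Nat.prime_three⟩
      obtain ⟨P⟩ : Nonempty (Sylow 3 G) := inferInstance
      exact absurd (hab 3 Nat.prime_three P)
        (ree_sylow_three_not_comm hJ hm hF (Chars.orderTarget G t F hJ m hm hF) P)

end Cfsg.Agent.AbelianSylow
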