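import Cfsg.Agent.EqLemmas
import Mathlib

/-!
# The order of a group of Ree type by counting (owner: helper87)

Let `C(t)` have order `q (q² - 1)`, let `H` be a proper subgroup of order `q³ (q - 1)` with a normal
subgroup `P` of order `q³` meeting its conjugates outside `H` trivially, and let `t ∈ H` with
`|C_H(t)| ≥ q (q - 1)`.

* `ReeCount.card_eq` : `|G| = q³ (q³ + 1) (q - 1)`
-/

set_option autoImplicit false

namespace Cfsg.Agent.AbelianSylow

open Subgroup MulAction
open scoped Pointwise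

universe u

variable {G : Type u} [Group G] [Finite G]

/-- The local data of a group of Ree type. -/
structure ReeCount (t : G) (H P : Subgroup G) (q : ℕ) : Prop where
  two_le : 2 ≤ q
  odd_q : q % 8 = 3
  sq_t : t * t = 1
  ne_one : t ≠ 1
  cent : Nat.card ↥(centralizer ({t} : Set G)) = q * (q ^ 2 - 1)
  le : P ≤ H
  normal : H ≤ normalizer (P : Set G)
  card_P : Nat.card ↥P = q ^ 3
  card_H : Nat.card ↥H = q ^ 3 * (q - 1)
  proper : H ≠ ⊤
  ti : ∀ g : G, g ∉ H → ∀ x ∈ P, g * x * g⁻¹ ∈ P → x = 1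
  mem : t ∈ H
  cent_H : q * (q - 1) ≤ Nat.card ↥(H ⊓ centralizer ({t} : Set G) : Subgroup G)

namespace ReeCount

variable {t : G} {H P : Subgroup G} {q : ℕ} (h : ReeCount t H P q)

include h

theorem coprime : (q ^ 3).Coprime (q - 1) := by
  have h1 : Nat.Coprime ((q - 1) + 1) (q - 1) := by simp
  rw [Nat.sub_add_cancel (by have := h.two_le; omega)] at h1
  exact h1.pow_left 3

/-- The elements of `H` of order dividing `q³` lie in `P`. -/
theorem mem_P {x : G} (hx : x ∈ H) (ho : x ^ q ^ 3 = 1) : x ∈ P := by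
  haveI : (P.subgroupOf H).Normal := normal_subgroupOf_of_le_normalizer h.normal
  have hidx : (P.subgroupOf H).index = q - 1 := by
    have h1 := (P.subgroupOf H).card_mul_index
    rw [Nat.card_congr (subgroupOfEquivOfLe h.le).toEquiv, h.card_P, h.card_H] at h1
    exact Nat.eq_of_mul_eq_mul_left (pow_pos (by have := h.two_le; omega) 3) h1
  have h2 := Subgroup.pow_index_mem (P.subgroupOf H) (⟨x, hx⟩ : ↥H)
  rw [hidx, mem_subgroupOf, SubmonoidClass.coe_pow] at h2
  have hg : x ^ Nat.gcd (q ^ 3) (q - 1) ∈ P := by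
    rw [← zpow_natCast, Nat.gcd_eq_gcd_ab, zpow_add, zpow_mul, zpow_mul, zpow_natCast, zpow_natCast, ho,
      one_zpow, one_mul]
    exact P.zpow_mem h2 _
  rwa [h.coprime.gcd_eq_one, pow_one] at hg

/-- An element of `P` fixing a second point is trivial. -/
theorem semiregular {p : G} (hp : p ∈ P) {g : G} (hg : g ∉ H) (hfix : g⁻¹ * p * g ∈ H) : p = 1 := by
  have hpo : p ^ q ^ 3 = 1 := by
    rw [← h.card_P]
    exact congrArg Subtype.val (pow_card_eq_one' (x := (⟨p, hp⟩ : ↥P)))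
  have h1 : g⁻¹ * p * g ∈ P := h.mem_P hfix (by
    rw [show g⁻¹ * p * g = g⁻¹ * p * g⁻¹⁻¹ by rw [inv_inv], conj_pow, hpo, mul_one, mul_inv_cancel])
  exact h.ti g⁻¹ (fun e => hg (by simpa using inv_mem e)) p hp (by rwa [inv_inv])

/-- `|G : H| = 1` modulo `q³`. -/
theorem index_mod : q ^ 3 + 1 ≤ H.index := by
  classical
  set x₀ : G ⧸ H := QuotientGroup.mk 1
  have hinv : ∀ p : ↥P, ∀ x : G ⧸ H, x ≠ x₀ → (p : G) • x ≠ x₀ := by
    intro p x hx e
    refine hx ?_
    rw [show x₀ = (p : G) • x₀ from ?_] at e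
    · exact smul_left_cancel _ e
    · refine (QuotientGroup.eq.2 ?_)
      simpa using h.le p.2
  obtain ⟨g, hg⟩ : ∃ g : G, g ∉ H := by
    by_contra hno
    push Not at hno
    exact h.proper (eq_top_iff.2 fun x _ => hno x)
  have hne : (QuotientGroup.mk g : G ⧸ H) ≠ x₀ := fun e => hg (by
    have := QuotientGroup.eq.1 e
    simpa using this)
  let f : Option ↥P → G ⧸ H := fun o => o.elim x₀ fun p => (p : G) • QuotientGroup.mk g
  have hf : Function.Injective f := by
    rintro (_ | p) (_ | p') e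
    · rfl
    · exact absurd e.symm (hinv p' _ hne)
    · exact absurd e (hinv p _ hne)
    · have e1 : (p : G) • (QuotientGroup.mk g : G ⧸ H) = (p' : G) • QuotientGroup.mk g := e
      rw [MulAction.Quotient.smul_mk, MulAction.Quotient.smul_mk, QuotientGroup.eq, smul_eq_mul, smul_eq_mul,
        show ((p : G) * g)⁻¹ * ((p' : G) * g) = g⁻¹ * ((p : G)⁻¹ * p') * g by group] at e1
      exact congrArg some (Subtype.ext
        (inv_mul_eq_one.1 (h.semiregular (mul_mem (inv_mem p.2) p'.2) hg e1)))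
  have := Nat.card_le_card_of_injective f hf
  rw [Finite.card_option, h.card_P, ← Subgroup.index_eq_card] at this
  omega

/-- The stabiliser of a second point in `H` has order at most `q - 1`. -/
theorem card_stab {g : G} (hg : g ∉ H) :
    Nat.card {x : G // x ∈ H ∧ g⁻¹ * x * g ∈ H} ≤ q - 1 := by
  have h1 : Nat.card ↥P * Nat.card {x : G // x ∈ H ∧ g⁻¹ * x * g ∈ H} ≤ Nat.card ↥H := by
    rw [← Nat.card_prod]
    refine Nat.card_le_card_of_injective
      (fun z => (⟨z.1 * z.2.1, mul_mem (h.le z.1.2) z.2.2.1⟩ : ↥H)) ?_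
    rintro ⟨p, x⟩ ⟨p', x'⟩ e
    have e' : (p : G) * x.1 = p' * x'.1 := congrArg Subtype.val e
    have h2 : (p' : G)⁻¹ * p = x'.1 * x.1⁻¹ := by
      calc (p' : G)⁻¹ * p = (p' : G)⁻¹ * (p * x.1) * x.1⁻¹ := by group
        _ = x'.1 * x.1⁻¹ := by rw [e']; group
    have h3 : (p' : G)⁻¹ * p = 1 := h.semiregular (mul_mem (inv_mem p'.2) p.2) hg (by
      rw [h2, show g⁻¹ * (x'.1 * x.1⁻¹) * g = g⁻¹ * x'.1 * g * (g⁻¹ * x.1 * g)⁻¹ by group]
      exact mul_mem x'.2.2 (inv_mem x.2.2))
    exact Prod.ext (Subtype.ext (inv_mul_eq_one.1 h3).symm)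
      (Subtype.ext (mul_inv_eq_one.1 (h2.symm.trans h3)).symm)
  rw [h.card_P, h.card_H] at h1
  exact Nat.le_of_mul_le_mul_left h1 (pow_pos (by have := h.two_le; omega) 3)

/-- The conjugates of `t` in `H` number at most `q²`. -/
theorem card_inside : Nat.card {i : G // IsConj t i ∧ i ∈ H} ≤ q ^ 2 := by
  classical
  haveI : Fact (Nat.Prime 2) := ⟨Nat.prime_two⟩
  -- a Sylow 2-subgroup of `H` has order 2
  have hS : ∀ Q : Sylow 2 ↥H, Nat.card ↥(Q : Subgroup ↥H) = 2 := by
    intro Q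
    rw [Q.card_eq_multiplicity, h.card_H]
    have hodd : Odd (q ^ 3) := Odd.pow (Nat.odd_iff.2 (by have := h.odd_q; omega))
    obtain ⟨k, hk⟩ : ∃ k, q - 1 = 2 * (2 * k + 1) := ⟨(q - 3) / 4, by have := h.odd_q; omega⟩
    rw [hk, Nat.factorization_mul (by rintro e; simp [e] at hodd) (by omega), Finsupp.add_apply,
      Nat.factorization_eq_zero_of_not_dvd (fun e => Nat.not_even_iff_odd.2 hodd (even_iff_two_dvd.2 e)),
      Nat.factorization_mul (by omega) (by omega), Finsupp.add_apply,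
      Nat.Prime.factorization_self Nat.prime_two,
      Nat.factorization_eq_zero_of_not_dvd (by omega : ¬ 2 ∣ 2 * k + 1)]
    rfl
  have hconj : ∀ i : G, IsConj t i → i ∈ H → ∃ c : ↥H, (c : G) * t * (c : G)⁻¹ = i := by
    intro i hi hiH
    have hsq : i * i = 1 := by
      obtain ⟨c, rfl⟩ := isConj_iff.1 hi
      rw [show c * t * c⁻¹ * (c * t * c⁻¹) = c * (t * t) * c⁻¹ by group, h.sq_t]; group
    have hi1 : i ≠ 1 := fun e => h.ne_one (isConj_one_left.1 (e ▸ hi))
    have hsub : ∀ (s : G) (hs : s ∈ H), s * s = 1 → s ≠ 1 →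
        ∃ Q : Sylow 2 ↥H, (Q : Subgroup ↥H) = zpowers ⟨s, hs⟩ := by
      intro s hs hss hs1
      have ho : orderOf (⟨s, hs⟩ : ↥H) = 2 := orderOf_eq_prime (by
        rw [pow_two]; exact Subtype.ext hss) (fun e => hs1 (congrArg Subtype.val e))
      have hp : IsPGroup 2 ↥(zpowers (⟨s, hs⟩ : ↥H)) := IsPGroup.of_card (n := 1) (by
        rw [Nat.card_zpowers, ho, pow_one])
      obtain ⟨Q, hQ⟩ := hp.exists_le_sylow
      exact ⟨Q, (Subgroup.eq_of_le_of_card_ge hQ (by rw [hS, Nat.card_zpowers, ho])).symm⟩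
    obtain ⟨Q, hQ⟩ := hsub t h.mem h.sq_t h.ne_one
    obtain ⟨Q', hQ'⟩ := hsub i hiH hsq hi1
    obtain ⟨c, hc⟩ := MulAction.exists_smul_eq ↥H Q Q'
    have h1 : MulAut.conj c (⟨t, h.mem⟩ : ↥H) ∈ (Q' : Subgroup ↥H) := by
      rw [← hc]
      show MulAut.conj c (⟨t, h.mem⟩ : ↥H) ∈ MulAut.conj c • (Q : Subgroup ↥H)
      exact Subgroup.smul_mem_pointwise_smul _ _ _ (hQ ▸ mem_zpowers _)
    rw [hQ'] at h1
    obtain ⟨n, hn⟩ := mem_zpowers_iff.1 h1
    have hn' : i ^ n = (c : G) * t * (c : G)⁻¹ := congrArg Subtype.val hn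
    rcases Int.even_or_odd' n with ⟨m, rfl | rfl⟩
    · refine absurd ?_ h.ne_one
      rw [zpow_mul, zpow_two, hsq, one_zpow] at hn'
      exact conj_eq_one_iff.1 hn'.symm
    · refine ⟨c, ?_⟩
      rw [zpow_add, zpow_mul, zpow_two, hsq, one_zpow, one_mul, zpow_one] at hn'
      exact hn'.symm
  set C := (centralizer ({t} : Set G)).subgroupOf H
  have hC : q * (q - 1) ≤ Nat.card ↥C := by
    refine h.cent_H.trans (Nat.card_le_card_of_injective
      (fun x => (⟨⟨x.1, x.2.1⟩, x.2.2⟩ : ↥C)) ?_)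
    intro x y e
    exact Subtype.ext (congrArg (fun z : ↥C => ((z : ↥H) : G)) e)
  have hle : Nat.card {i : G // IsConj t i ∧ i ∈ H} ≤ C.index := by
    rw [Subgroup.index_eq_card]
    refine Nat.card_le_card_of_injective (fun i => QuotientGroup.mk (hconj i.1 i.2.1 i.2.2).choose) ?_
    intro i j e
    have hi := (hconj i.1 i.2.1 i.2.2).choose_spec
    have hj := (hconj j.1 j.2.1 j.2.2).choose_spec
    set a := (hconj i.1 i.2.1 i.2.2).choose
    set b := (hconj j.1 j.2.1 j.2.2).choose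
    have h1 : ((a : G)⁻¹ * b) * t = t * ((a : G)⁻¹ * b) :=
      mem_centralizer_singleton_iff.1 (mem_subgroupOf.1 (QuotientGroup.eq.1 e))
    refine Subtype.ext ?_
    rw [← hi, ← hj]
    calc (a : G) * t * (a : G)⁻¹ = (a : G) * (t * ((a : G)⁻¹ * b)) * (b : G)⁻¹ := by group
      _ = (b : G) * t * (b : G)⁻¹ := by rw [← h1]; group
  refine hle.trans ?_
  have h1 := C.card_mul_index
  rw [h.card_H] at h1
  have h2 : q * (q - 1) * C.index ≤ q * (q - 1) * q ^ 2 := by
    calc q * (q - 1) * C.index ≤ Nat.card ↥C * C.index := Nat.mul_le_mul_right _ hC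
      _ = q * (q - 1) * q ^ 2 := by rw [h1]; ring
  exact Nat.le_of_mul_le_mul_left h2 (Nat.mul_pos (by have := h.two_le; omega) (by have := h.two_le; omega))

/-- The order of a group of Ree type. -/
theorem card_eq : Nat.card G = q ^ 3 * (q ^ 3 + 1) * (q - 1) := by
  classical
  haveI := Fintype.ofFinite (G ⧸ H)
  haveI := Fintype.ofFinite G
  set x₀ : G ⧸ H := QuotientGroup.mk 1
  set I := (Finset.univ : Finset G).filter fun i => IsConj t i
  have hI : I.card * (q * (q ^ 2 - 1)) = H.index * (q ^ 3 * (q - 1)) := by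
    have h1 : Nat.card {i : G // IsConj t i} * Nat.card ↥(centralizer ({t} : Set G)) = Nat.card G := by
      rw [Subgroup.nat_card_centralizer_nat_card_stabilizer]
      have e : {i : G | IsConj t i} = MulAction.orbit (ConjAct G) t := by
        ext x
        rw [ConjAct.mem_orbit_conjAct]
        exact isConj_comm
      have e' : Nat.card {i : G // IsConj t i} = Nat.card ↥(MulAction.orbit (ConjAct G) t) := by
        rw [← e]; rfl
      rw [e', ← Nat.card_prod]
      exact (Nat.card_congr (MulAction.orbitProdStabilizerEquivGroup (ConjAct G) t)).trans rfl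
    rw [h.cent, Nat.card_eq_fintype_card, Fintype.card_subtype, ← H.card_mul_index, h.card_H] at h1
    rw [h1]; ring
  have hout : (I.filter fun i : G => (i • x₀ : G ⧸ H) ≠ x₀).card ≤
      (q - 1) * ((Finset.univ : Finset (G ⧸ H)).erase x₀).card := by
    refine Finset.card_le_mul_card_image_of_maps_to (f := fun i : G => (i • x₀ : G ⧸ H))
      (fun i hi => Finset.mem_erase.2 ⟨(Finset.mem_filter.1 hi).2, Finset.mem_univ _⟩) _ ?_
    intro y hy
    by_cases hemp : ((I.filter fun i : G => (i • x₀ : G ⧸ H) ≠ x₀).filter fun i => i • x₀ = y) = ∅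
    · rw [hemp]; exact Nat.zero_le _
    obtain ⟨j, hj⟩ := Finset.nonempty_iff_ne_empty.2 hemp
    simp only [I, Finset.mem_filter, Finset.mem_univ, true_and] at hj
    obtain ⟨⟨hjt, hjne⟩, hjy⟩ := hj
    have hsq : ∀ i : G, IsConj t i → i * i = 1 := fun i hi => by
      obtain ⟨c, rfl⟩ := isConj_iff.1 hi
      rw [show c * t * c⁻¹ * (c * t * c⁻¹) = c * (t * t) * c⁻¹ by group, h.sq_t]; group
    have hmk : ∀ g : G, (g • x₀ : G ⧸ H) = QuotientGroup.mk g := fun g => by
      rw [MulAction.Quotient.smul_mk, smul_eq_mul, mul_one]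
    have hjH : j ∉ H := fun e => hjne (by rw [hmk]; exact QuotientGroup.eq.2 (by simpa using inv_mem e))
    refine le_trans ?_ (h.card_stab hjH)
    rw [Nat.card_eq_fintype_card, Fintype.card_subtype]
    refine Finset.card_le_card_of_injOn (fun i => j⁻¹ * i) ?_ fun a _ b _ e => mul_left_cancel e
    intro i hi
    simp only [I, Finset.coe_filter, Set.mem_ofPred_eq, Finset.mem_filter, Finset.mem_univ, true_and] at hi ⊢
    obtain ⟨⟨hit, -⟩, hiy⟩ := hi
    have e1 : j⁻¹ * i ∈ H := QuotientGroup.eq.1 (by rw [← hmk, ← hmk, hiy, hjy])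
    refine ⟨e1, ?_⟩
    have hji : j⁻¹ = j := inv_eq_of_mul_eq_one_right (hsq j hjt)
    have hii : i⁻¹ = i := inv_eq_of_mul_eq_one_right (hsq i hit)
    have e2 : (j⁻¹ * i)⁻¹ ∈ H := inv_mem e1
    rw [mul_inv_rev, inv_inv, hii] at e2
    rwa [hji, show j * (j * i) * j = j * j * (i * j) by group, hsq j hjt, one_mul]
  rw [Finset.card_erase_of_mem (Finset.mem_univ _), Finset.card_univ, ← Nat.card_eq_fintype_card,
    ← Subgroup.index_eq_card] at hout
  have hin : (I.filter fun i : G => ¬ (i • x₀ : G ⧸ H) ≠ x₀).card ≤ q ^ 2 := by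
    refine le_trans ?_ h.card_inside
    rw [Nat.card_eq_fintype_card, Fintype.card_subtype]
    refine Finset.card_le_card fun i hi => ?_
    simp only [I, Finset.mem_filter, Finset.mem_univ, true_and, not_not] at hi ⊢
    refine ⟨hi.1, ?_⟩
    have e := hi.2
    rw [MulAction.Quotient.smul_mk, smul_eq_mul, mul_one] at e
    simpa using QuotientGroup.eq.1 e.symm
  generalize hn0 : H.index = n at hI hout
  have hsum := I.card_filter_add_card_filter_not (fun i : G => (i • x₀ : G ⧸ H) ≠ x₀)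
  have hge := h.index_mod
  rw [hn0] at hge
  have hIle : I.card ≤ (q - 1) * (n - 1) + q ^ 2 := by omega
  rw [← H.card_mul_index, h.card_H]
  have hn : n = q ^ 3 + 1 := by
    obtain ⟨r, rfl⟩ : ∃ r, q = r + 2 := ⟨q - 2, by have := h.two_le; omega⟩
    obtain ⟨m, hm⟩ : ∃ m, n = m + 1 := ⟨n - 1, by omega⟩
    rw [hm] at hI hIle hge ⊢
    rw [show r + 2 - 1 = r + 1 by omega, show (r + 2) ^ 2 - 1 = (r + 1) * (r + 3) by
      rw [show (r + 2) ^ 2 = (r + 1) * (r + 3) + 1 by ring]; omega] at hI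
    have hI' : I.card * (r + 3) = (m + 1) * (r + 2) ^ 2 := by
      refine Nat.eq_of_mul_eq_mul_left (show 0 < (r + 2) * (r + 1) by positivity) ?_
      calc (r + 2) * (r + 1) * (I.card * (r + 3)) = I.card * ((r + 2) * ((r + 1) * (r + 3))) := by ring
        _ = _ := by rw [hI]; ring
    rw [show r + 2 - 1 = r + 1 by omega, Nat.add_sub_cancel] at hIle
    have h2 := Nat.mul_le_mul_right (r + 3) hIle
    nlinarith
  rw [hn0, hn]; ring

end ReeCount

end Cfsg.Agent.AbelianSylow
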