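import Cfsg.Agent.EqLemmas
import Cfsg.Agent.Lib.AbelianSylow.Walter
import Cfsg.Agent.Lib.AbelianSylow.Chars.Main
import Cfsg.Agent.Lib.SmallOrders.Basic
import Cfsg.Agent.S1245
import Cfsg.Agent.S3181
import Cfsg.Prelude.Def_Sz
import Cfsg.Prelude.Def_Classical

/-!
# Simple groups with central Sylow 2-intersections (owner: helper74)

* `jt_direct`  : `C(t) = ⟨t⟩ × L` in the Janko-Thompson situation
* `s3182_of`   : statement S3182 from part (a)
-/

set_option autoImplicit false
set_option linter.style.haveILetI false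

namespace Cfsg.Agent.AbelianSylow

open Subgroup

universe u

variable {G : Type u} [Group G] [Finite G]

/-- The direct product in the Janko-Thompson situation. -/
theorem jt_direct {t : G} {F : Type} [Field F] [Fintype F] (hJ : JTData G t F) :
    ∃ L : Subgroup G, Cfsg.IsInternalDirectProduct (zpowers t) L (centralizer ({t} : Set G)) ∧
      Nonempty (↥L ≃* Matrix.ProjectiveSpecialLinearGroup (Fin 2) F) := by
  obtain ⟨L, hL⟩ := Local.exists_lfac hJ
  have htC : t ∈ centralizer ({t} : Set G) := mem_centralizer_singleton_iff.2 rfl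
  have hLC : L ≤ centralizer ({t} : Set G) := fun x hx =>
    mem_centralizer_singleton_iff.2 (hL.ctx.commute_of_mem hx).eq
  have h2 : t ^ (2 : ℤ) = 1 := by rw [zpow_two, hL.tt]
  refine ⟨L, ⟨zpowers_le.2 htC, hLC, fun a ha b hb => ?_, ?_, le_antisymm (sup_le (zpowers_le.2 htC) hLC) ?_⟩, hL.iso⟩
  · obtain ⟨k, rfl⟩ := mem_zpowers_iff.1 ha
    exact ((hL.ctx.commute_of_mem hb).symm.zpow_left k).eq
  · rw [eq_bot_iff]
    rintro x ⟨hx, hxL⟩
    obtain ⟨k, rfl⟩ := mem_zpowers_iff.1 hx
    rcases Int.even_or_odd k with ⟨j, rfl⟩ | ⟨j, rfl⟩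
    · rw [mem_bot, ← two_mul, zpow_mul, h2, one_zpow]
    · rw [zpow_add, zpow_mul, h2, one_zpow, one_mul, zpow_one] at hxL
      exact absurd hxL hL.ctx.htE
  · intro c hc
    rcases hL.ctx.split c (mem_centralizer_singleton_iff.1 hc) with h | ⟨e, he, rfl⟩
    · exact mem_sup_right h
    · exact mul_mem_sup (mem_zpowers t) he

omit [Finite G] in
/-- An abelian subgroup commuting with a complement is trivial in a simple group. -/
theorem eq_top_of_commuting [IsSimpleGroup G] (hG : ¬ IsMulCommutative G) {A L : Subgroup G}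
    (hA : IsMulCommutative A) (hc : ∀ a ∈ A, ∀ l ∈ L, a * l = l * a) (hsup : A ⊔ L = ⊤) : L = ⊤ := by
  have hle : A ≤ center G := fun a ha => mem_center_iff.2 fun g => by
    have hg : g ∈ A ⊔ L := hsup.ge (mem_top g)
    have hle : A ⊔ L ≤ centralizer ({a} : Set G) := sup_le
      (fun b hb => mem_centralizer_singleton_iff.2 (congrArg Subtype.val (hA.is_comm.comm ⟨b, hb⟩ ⟨a, ha⟩)))
      (fun l hl => mem_centralizer_singleton_iff.2 (hc a ha l hl).symm)
    exact mem_centralizer_singleton_iff.1 (hle hg)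
  rw [SmallOrders.center_eq_bot hG, le_bot_iff] at hle
  rwa [hle, bot_sup_eq] at hsup

/-- **S3182** from part (a). -/
theorem s3182_of (hA : CentTarget.{u}) [IsSimpleGroup G] (hG : ¬ IsMulCommutative G)
    (hCI : ∀ S T : Sylow 2 G, S ≠ T → ∃ U : Sylow 2 G,
      (S : Subgroup G) ⊓ (T : Subgroup G) ≤ (Subgroup.center ↥(U : Subgroup G)).map (U : Subgroup G).subtype) :
    (∃ (F : Type) (_ : Field F) (_ : Fintype F),
        (Fintype.card F % 8 = 0 ∨ Fintype.card F % 8 = 3 ∨ Fintype.card F % 8 = 5) ∧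
        Nonempty (G ≃* Matrix.ProjectiveSpecialLinearGroup (Fin 2) F)) ∨
    ((∀ S : Sylow 2 G, IsMulCommutative ↥(S : Subgroup G)) ∧
      ∃ t : G, orderOf t = 2 ∧ IsCoatom (Subgroup.centralizer ({t} : Set G)) ∧
        ∃ E : Subgroup G, Cfsg.IsInternalDirectProduct (Subgroup.zpowers t) E (Subgroup.centralizer ({t} : Set G)) ∧
          ∃ (F : Type) (_ : Field F) (_ : Fintype F), Odd (Fintype.card F) ∧ 3 < Fintype.card F ∧
            ∃ N : Subgroup ↥E, N.Normal ∧ Nonempty (↥N ≃* Matrix.ProjectiveSpecialLinearGroup (Fin 2) F) ∧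
              Subgroup.centralizer (N : Set ↥E) = ⊥) ∨
    (∃ (m : ℕ) (F : Type) (_ : Field F) (_ : Fintype F), 1 ≤ m ∧ Fintype.card F = 2 ^ (2 * m + 1) ∧
        Nonempty (G ≃* ↥(Cfsg.Lie.Sz F (2 ^ (m + 1))))) ∨
    (∃ (n : ℕ) (F : Type) (_ : Field F) (_ : Fintype F), 2 ≤ n ∧ Fintype.card F = 4 ^ n ∧
        Nonempty (G ≃* Cfsg.PSU 3 F (2 ^ n))) := by
  haveI : Fact (Nat.Prime 2) := ⟨Nat.prime_two⟩
  have htop : ∀ M : Subgroup G, M.Normal → Odd M.index → M = ⊤ := fun M hM hodd =>
    hM.eq_bot_or_eq_top.resolve_left fun hb => by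
      rw [hb, index_bot] at hodd
      exact Nat.not_even_iff_odd.2 hodd (even_iff_two_dvd.2 (two_dvd hG))
  rcases S3181.result hCI with ⟨hsol, -⟩ | hab |
    ⟨N, M, hNn, hMn, _, hlt, -, hodd, A, L, hAc, -, ⟨eL⟩, hcomm, hsup⟩ |
    ⟨M, hMn, hodd, A, L, hAc, -, hcase⟩
  · exact absurd ⟨⟨IsSimpleGroup.comm_iff_isSolvable.2 hsol⟩⟩ hG
  · obtain ⟨S⟩ : Nonempty (Sylow 2 G) := inferInstance
    rcases simple_cases hG S (hab S) with ⟨a, ha, F, _, _, hF, ⟨e⟩⟩ | ⟨F, _, _, ⟨h8, -⟩, he⟩ | h
    · left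
      rcases Nat.lt_or_ge a 3 with ha3 | ha3
      · obtain rfl : a = 2 := by omega
        haveI : Fact (Nat.Prime 5) := ⟨by norm_num⟩
        obtain ⟨e4⟩ := Linear.nonempty_pslTwo_four (F := F) (by rw [Nat.card_eq_fintype_card, hF]; norm_num)
        obtain ⟨e5⟩ := Linear.nonempty_pslTwo_five (F := ZMod 5) (ZMod.card 5)
        exact ⟨ZMod 5, inferInstance, inferInstance, .inr (.inr (by rw [ZMod.card])),
          ⟨(e.trans e4).trans e5.symm⟩⟩
      · refine ⟨F, inferInstance, inferInstance, .inl ?_, ⟨e⟩⟩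
        rw [hF, ← Nat.dvd_iff_mod_eq_zero]
        exact pow_dvd_pow 2 ha3
    · exact .inl ⟨F, inferInstance, inferInstance, .inr h8, he⟩
    · obtain ⟨t, F, _, _, hJ⟩ := hA G h
      obtain ⟨E, hE, ⟨eE⟩⟩ := jt_direct hJ
      obtain ⟨hs, hna⟩ : IsSimpleGroup (Matrix.ProjectiveSpecialLinearGroup (Fin 2) F) ∧
          ¬ IsMulCommutative (Matrix.ProjectiveSpecialLinearGroup (Fin 2) F) :=
        ⟨PSL2.isSimpleGroup_psl (by rw [Nat.card_eq_fintype_card]; exact le_trans (by norm_num) hJ.five),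
          fun h' => PSL2.not_comm_psl (by rw [Nat.card_eq_fintype_card]; exact lt_of_lt_of_le (by norm_num) hJ.five)
            h'.is_comm.comm⟩
      haveI := hs
      have hcen : center ↥E = ⊥ := by
        rw [eq_bot_iff]
        intro x hx
        have h1 : eE x ∈ center _ := mem_center_iff.2 fun y => by
          obtain ⟨z, rfl⟩ := eE.surjective y
          rw [← map_mul, ← map_mul, mem_center_iff.1 hx z]
        rw [SmallOrders.center_eq_bot hna, mem_bot] at h1
        exact (map_eq_one_iff eE eE.injective).1 h1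
      have hFodd : Odd (Fintype.card F) := Nat.odd_iff.2 (by rcases hJ.mod8 with h' | h' <;> omega)
      refine .inr (.inl ⟨hab, t, hJ.invol, ?_, E, hE, F, inferInstance, inferInstance, hFodd,
        lt_of_lt_of_le (by norm_num) hJ.five, ⊤, inferInstance, ⟨topEquiv.trans eE⟩, ?_⟩)
      · refine S1245.result hG S (hab S) t hJ.invol E E hE le_rfl (by rw [subgroupOf_self]; infer_instance)
          ⟨F, inferInstance, inferInstance, hFodd, ⟨eE⟩⟩ ?_
        rw [eq_bot_iff]
        intro x hx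
        have h1 : (⟨x, hx.1⟩ : E) ∈ center ↥E := mem_center_iff.2 fun y =>
          Subtype.ext (mem_centralizer_iff.1 hx.2 y y.2)
        rw [hcen, mem_bot] at h1
        exact mem_bot.2 (congrArg Subtype.val h1)
      · rw [coe_top, centralizer_univ, hcen]
  · exfalso
    obtain rfl := htop M hMn hodd
    obtain rfl : N = ⊥ := hNn.eq_bot_or_eq_top.resolve_right hlt.ne
    let π := QuotientGroup.mk' ((⊥ : Subgroup G).subgroupOf ⊤)
    have hinj : Function.Injective (π.comp Subgroup.topEquiv.symm.toMonoidHom) := by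
      rw [injective_iff_map_eq_one]
      intro g hg
      have := (QuotientGroup.eq_one_iff _).1 hg
      simpa [mem_subgroupOf] using this
    let e := MulEquiv.ofBijective _ ⟨hinj, (QuotientGroup.mk'_surjective _).comp topEquiv.symm.surjective⟩
    haveI : IsSimpleGroup (↥(⊤ : Subgroup G) ⧸ (⊥ : Subgroup G).subgroupOf ⊤) := e.symm.isSimpleGroup
    have hQ : ¬ IsMulCommutative (↥(⊤ : Subgroup G) ⧸ (⊥ : Subgroup G).subgroupOf ⊤) := fun h =>
      hG ⟨⟨fun a b => e.injective (by rw [map_mul, map_mul]; exact h.is_comm.comm _ _)⟩⟩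
    have hL := eq_top_of_commuting hQ hAc hcomm hsup
    subst hL
    have hz : eL.symm (-1) ∈ center _ := mem_center_iff.2 fun y => by
      apply eL.injective
      rw [map_mul, map_mul, eL.apply_symm_apply]
      exact Subtype.ext (by simp)
    rw [show center (↥(⊤ : Subgroup (↥(⊤ : Subgroup G) ⧸ (⊥ : Subgroup G).subgroupOf ⊤))) = ⊥ by
      rw [eq_bot_iff]
      intro x hx
      have h1 : (x : ↥(⊤ : Subgroup G) ⧸ (⊥ : Subgroup G).subgroupOf ⊤) ∈ center _ := mem_center_iff.2 fun y =>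
        congrArg Subtype.val (mem_center_iff.1 hx ⟨y, mem_top y⟩)
      rw [SmallOrders.center_eq_bot hQ, mem_bot] at h1
      exact mem_bot.2 (Subtype.ext h1), mem_bot, ← map_one eL.symm] at hz
    have := eL.symm.injective hz
    revert this
    decide
  · obtain rfl := htop M hMn hodd
    rcases hcase with ⟨⟨-, -, hcomm, -, hsup⟩, hfam⟩ | ⟨-, -, hcomm, hsup, -, hz, -⟩
    · obtain rfl := eq_top_of_commuting hG hAc hcomm hsup
      rcases hfam with ⟨m, F, _, _, hm, hF, ⟨e⟩⟩ | ⟨n, F, _, _, hn, hF, he⟩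
      · exact .inr (.inr (.inl ⟨m, F, inferInstance, inferInstance, hm, hF, ⟨topEquiv.symm.trans e⟩⟩))
      rcases he with he | he <;> obtain ⟨e⟩ := he
      · exact .inr (.inr (.inr ⟨n, F, inferInstance, inferInstance, hn, hF, ⟨topEquiv.symm.trans e⟩⟩))
      · refine .inr (.inr (.inr ⟨n, F, inferInstance, inferInstance, hn, hF, ?_⟩))
        let e' : G ≃* Cfsg.SU 3 F (2 ^ n) := topEquiv.symm.trans e
        have hbot : center (Cfsg.SU 3 F (2 ^ n)) = ⊥ := by
          rw [eq_bot_iff]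
          intro x hx
          have h1 : e'.symm x ∈ center G := mem_center_iff.2 fun g => e'.injective (by
            rw [map_mul, map_mul, e'.apply_symm_apply]; exact mem_center_iff.1 hx _)
          rw [SmallOrders.center_eq_bot hG, mem_bot] at h1
          exact mem_bot.2 ((map_eq_one_iff e'.symm e'.symm.injective).1 h1)
        exact ⟨e'.trans ((QuotientGroup.quotientBot).symm.trans (QuotientGroup.quotientMulEquivOfEq hbot.symm))⟩
    · obtain rfl := eq_top_of_commuting hG hAc hcomm hsup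
      refine absurd ?_ hz
      rw [eq_bot_iff]
      intro x hx
      have h1 : (x : G) ∈ center G := mem_center_iff.2 fun y =>
        congrArg Subtype.val (mem_center_iff.1 hx ⟨y, mem_top y⟩)
      rw [SmallOrders.center_eq_bot hG, mem_bot] at h1
      exact mem_bot.2 (Subtype.ext h1)

end Cfsg.Agent.AbelianSylow
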