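import Cfsg.Agent.Lib.AbelianSylow.Janko
import Cfsg.Agent.Lib.AbelianInter.Basic
import Cfsg.Agent.Lib.Goldschmidt.General.Final
import Cfsg.Agent.Lib.GWDihedral.Main
import Cfsg.Agent.Lib.Goldschmidt.ThreeInv.Main
import Cfsg.Agent.Lib.Bender.RankOneHalf
import Cfsg.Agent.Lib.Bender.Final
import Cfsg.Agent.Lib.SuzukiRankOne.Kernel.Main
import Cfsg.Agent.Lib.SuzukiRankOne.Elementary
import Cfsg.Agent.Lib.GWKlein.General.Main
import Cfsg.Agent.Lib.MeetReduce.Basic
import Cfsg.Agent.Lib.PSL2.Soluble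
import Cfsg.Agent.Lib.Linear.PSLTwoSmall
import Cfsg.Prelude.Def_LocalEven
import Cfsg.Agent.Lib.OrderJanko.Types

/-!
# Simple groups with abelian Sylow 2-subgroups from the three targets (owner: helper74)

* `simple_cases8` : `L₂(2^n)`, `L₂(q)` with `q ≡ 3, 5 (mod 8)`, or `Elem8`
* `s0506_of`, `s0343_of`, `s0993_of`, `reeType_or_j1_of` : statements S0506, S0343, S0993 and the
  last clause of S2775, given the targets
-/

set_option autoImplicit false
set_option linter.style.haveILetI false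

namespace Cfsg.Agent.AbelianSylow

open Cfsg Subgroup

universe u v

local notation "PSLt" => Matrix.ProjectiveSpecialLinearGroup (Fin 2)

variable {G : Type u} [Group G] [Finite G]

/-- The order of a nonabelian simple group is divisible by 4. -/
theorem four_dvd_card {T : Type v} [Group T] [Finite T] [IsSimpleGroup T] (hT : ¬ IsMulCommutative T) :
    4 ∣ Nat.card T := by
  haveI : Fact (Nat.Prime 2) := ⟨Nat.prime_two⟩
  obtain ⟨S⟩ : Nonempty (Sylow 2 T) := inferInstance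
  have hns : ¬ Group.IsSolvable T := fun hs => hT ⟨⟨IsSimpleGroup.comm_iff_isSolvable.2 hs⟩⟩
  have hnc := MeetReduce.not_isCyclic_sylow hns S
  obtain ⟨k, hk⟩ := IsPGroup.iff_card.1 S.isPGroup'
  rcases lt_or_ge k 2 with hk2 | hk2
  · refine absurd ?_ hnc
    interval_cases k
    · haveI : Subsingleton (S : Subgroup T) := (Nat.card_eq_one_iff_unique.1 (by simpa using hk)).1
      infer_instance
    · exact isCyclic_of_prime_card (p := 2) (by simpa using hk)
  · exact ((pow_dvd_pow 2 hk2).trans (dvd_of_eq hk.symm)).trans (card_subgroup_dvd_card _)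

/-- An involution lies in some Sylow 2-subgroup. -/
theorem exists_sylow_mem {t : G} (ht : orderOf t = 2) : ∃ P : Sylow 2 G, t ∈ (P : Subgroup G) := by
  obtain ⟨P, hP⟩ := (IsPGroup.of_card (n := 1) (by rw [Nat.card_zpowers, ht, pow_one]) :
    IsPGroup 2 (zpowers t)).exists_le_sylow
  exact ⟨P, hP (mem_zpowers t)⟩

theorem sylow_comm {S : Sylow 2 G} (hS : IsMulCommutative (S : Subgroup G)) (P : Sylow 2 G) :
    ∀ a ∈ (P : Subgroup G), ∀ b ∈ (P : Subgroup G), a * b = b * a := by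
  haveI : Fact (Nat.Prime 2) := ⟨Nat.prime_two⟩
  obtain ⟨g, rfl⟩ := MulAction.exists_smul_eq G S P
  intro a ha b hb
  rw [Sylow.coe_subgroup_smul] at ha hb
  obtain ⟨x, hx, rfl⟩ := ha
  obtain ⟨y, hy, rfl⟩ := hb
  show g * x * g⁻¹ * (g * y * g⁻¹) = g * y * g⁻¹ * (g * x * g⁻¹)
  rw [show g * x * g⁻¹ * (g * y * g⁻¹) = g * (x * y) * g⁻¹ by group,
    show x * y = y * x from congrArg Subtype.val (hS.is_comm.comm ⟨x, hx⟩ ⟨y, hy⟩)]
  group

/-- The reduction: no target is needed. -/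
theorem simple_cases8 [IsSimpleGroup G] (hG : ¬ IsMulCommutative G) (S : Sylow 2 G)
    (hS : IsMulCommutative (S : Subgroup G)) :
    (∃ (F : Type) (_ : Field F) (_ : Fintype F) (n : ℕ), 2 ≤ n ∧ Fintype.card F = 2 ^ n ∧
        Nonempty (G ≃* PSLt F)) ∨
      (¬ 8 ∣ Nat.card G ∧ ∃ (F : Type) (_ : Field F) (_ : Fintype F),
        (Fintype.card F % 8 = 3 ∨ Fintype.card F % 8 = 5) ∧ 3 < Fintype.card F ∧ Nonempty (G ≃* PSLt F)) ∨
      Elem8 G := by
  haveI : Fact (Nat.Prime 2) := ⟨Nat.prime_two⟩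
  have hab : ∃ a b : G, a * b ≠ b * a := by
    by_contra hc
    push Not at hc
    exact hG ⟨⟨hc⟩⟩
  by_cases hse : ∃ H : Subgroup G, IsStronglyEmbedded H
  · left
    obtain ⟨H, hH⟩ := hse
    haveI := Bender.faithful_of_normalCore (Bender.normalCore_of_simple hH)
    have h2 := SuzukiRankOne.two_involutions_of_simple hH
    obtain ⟨t, Q, h⟩ := Bender.rankOneHalf G H hH (Bender.normalCore_of_simple hH) h2
    obtain ⟨hQ2, hQab⟩ := SuzukiRankOne.kernelShape G (G ⧸ H) _ t Q h h2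
    obtain ⟨P, hP⟩ := RankOne.Setup.exists_sylow_two_le h
    have hPQ : Q = (P : Subgroup G) := P.3 hQ2 hP
    have hQ : ∀ x ∈ Q, x * x = 1 := hQab ⟨⟨fun a b => Subtype.ext
      (sylow_comm hS P a (hPQ ▸ a.2) b (hPQ ▸ b.2))⟩⟩
    obtain ⟨L, hL, hodd, F, _, _, ⟨n, hn, hF⟩, ⟨e⟩⟩ := SuzukiRankOne.elementary_case h h2 hQ
    have hLt : L = ⊤ := hL.eq_bot_or_eq_top.resolve_left fun hbot => by
      rw [hbot, index_bot] at hodd
      exact absurd ((dvd_of_mul_left_eq _ rfl : 2 ∣ 2 * 2).trans (four_dvd_card hG))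
        (fun h2' => Nat.not_even_iff_odd.2 hodd (even_iff_two_dvd.2 h2'))
    exact ⟨F, inferInstance, inferInstance, n, hn, hF,
      ⟨(Subgroup.topEquiv.symm.trans (MulEquiv.subgroupCongr hLt.symm)).trans e⟩⟩
  right
  set A := AbelianInter.om (S : Subgroup G) with hAdef
  have hcom : AbelianInter.Comm (S : Subgroup G) := sylow_comm hS S
  have hA : ∀ {x}, x ∈ A ↔ x ∈ (S : Subgroup G) ∧ x * x = 1 := AbelianInter.mem_om hcom
  have hne : A ≠ ⊥ := by
    obtain ⟨⟨x, hx⟩, h⟩ := exists_prime_orderOf_dvd_card' 2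
      (S.dvd_card_of_dvd_card ((dvd_of_mul_left_eq _ rfl : 2 ∣ 2 * 2).trans (four_dvd_card hG)))
    rw [orderOf_mk] at h
    intro e
    have hxA : x ∈ A := hA.2 ⟨hx, by rw [← pow_two, ← h, pow_orderOf_eq_one]⟩
    rw [e, mem_bot] at hxA
    rw [hxA, orderOf_one] at h
    norm_num at h
  have hel : IsElementaryAbelian 2 A :=
    ⟨⟨⟨fun a b => Subtype.ext (hcom a (hA.1 a.2).1 b (hA.1 b.2).1)⟩⟩,
      fun a ha => by rw [pow_two]; exact (hA.1 ha).2⟩
  have hsc : IsStronglyClosed A (S : Subgroup G) := by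
    refine ⟨fun x hx => (hA.1 hx).1, fun x hx g hg => hA.2 ⟨hg, ?_⟩⟩
    rw [show g * x * g⁻¹ * (g * x * g⁻¹) = g * (x * x) * g⁻¹ by group, (hA.1 hx).2]
    group
  obtain ⟨hel8, hle⟩ := (Goldschmidt.General.mainAt_of Goldschmidt.ThreeInv.threeInvTarget G ‹_› hab S A
    hne hel hsc).resolve_left hse
  obtain ⟨k, hk⟩ := IsPGroup.iff_card.1 S.isPGroup'
  have h4 : 4 ∣ Nat.card ↥(S : Subgroup G) :=
    S.pow_dvd_card_of_pow_dvd_card (n := 2) (four_dvd_card hG)
  have hcases : Nat.card ↥(S : Subgroup G) = 4 ∨ Nat.card ↥(S : Subgroup G) = 8 := by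
    rw [hk] at h4 hle ⊢
    have : k ≤ 3 := (Nat.pow_le_pow_iff_right (le_refl 2)).1 (by simpa using hle)
    interval_cases k <;> simp_all
  rcases hcases with h4' | h8'
  · left
    have h8 : ¬ 8 ∣ Nat.card G := fun hd => by
      have := S.pow_dvd_card_of_pow_dvd_card (n := 3) (by simpa using hd)
      rw [h4'] at this
      norm_num at this
    have hK : IsKleinFour (S : Subgroup G) := by
      refine ⟨h4', ?_⟩
      refine Nat.Prime.eq_one_or_self_of_dvd Nat.prime_two _ (Monoid.exponent_dvd_of_forall_pow_eq_one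
        fun a => Subtype.ext (by simpa using hel8.2 a a.2)) |>.resolve_left fun e => ?_
      haveI := Monoid.exp_eq_one_iff.1 e
      rw [Nat.card_eq_one_iff_unique.2 ⟨inferInstance, ⟨1⟩⟩] at h4'
      norm_num at h4'
    obtain ⟨F, _, _, hodd, ⟨e⟩⟩ := GWKlein.kleinGW G ‹_› hG S hK
    exact ⟨h8, GWKlein.psl_arith hG hodd e h8⟩
  · right
    refine ⟨‹_›, hG, fun P => ?_, hse⟩
    obtain ⟨g, rfl⟩ := MulAction.exists_smul_eq G S P
    refine ⟨⟨⟨⟨fun a b => Subtype.ext (sylow_comm hS _ a a.2 b b.2)⟩⟩, fun a ha => ?_⟩, ?_⟩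
    · rw [Sylow.coe_subgroup_smul] at ha
      obtain ⟨x, hx, rfl⟩ := ha
      show (g * x * g⁻¹) ^ 2 = 1
      rw [conj_pow, hel8.2 x hx, mul_one, mul_inv_cancel]
    · rw [← h8']
      exact Nat.card_congr (Sylow.equivSMul S g).toEquiv.symm

theorem Elem8.comm (h : Elem8 G) (P : Sylow 2 G) : IsMulCommutative (P : Subgroup G) := (h.sylow P).1.1

theorem Elem8.card_sylow (h : Elem8 G) (P : Sylow 2 G) : Nat.card ↥(P : Subgroup G) = 8 := (h.sylow P).2

theorem Elem8.not_sixteen (h : Elem8 G) : ¬ 16 ∣ Nat.card G := fun hd => by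
  haveI : Fact (Nat.Prime 2) := ⟨Nat.prime_two⟩
  obtain ⟨P⟩ : Nonempty (Sylow 2 G) := inferInstance
  have := P.pow_dvd_card_of_pow_dvd_card (n := 4) (by simpa using hd)
  rw [h.card_sylow P] at this
  norm_num at this

/-- A simple group with abelian Sylow 2-subgroups is a Goldschmidt group. -/
theorem goldschmidtGroup_of (hC : CentTarget.{u}) (h3 : ThreeTarget.{u}) [IsSimpleGroup G]
    (hG : ¬ IsMulCommutative G) (S : Sylow 2 G) (hS : IsMulCommutative (S : Subgroup G)) :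
    IsGoldschmidtGroup G := by
  rcases simple_cases8 hG S hS with ⟨F, _, _, n, hn, hF, ⟨e⟩⟩ | ⟨-, F, _, _, hmod, h3', he⟩ | h
  · rcases Nat.lt_or_ge n 3 with h2 | h3'
    · obtain rfl : n = 2 := by omega
      haveI : Fact (Nat.Prime 5) := ⟨by norm_num⟩
      obtain ⟨e4⟩ := Linear.nonempty_pslTwo_four (F := F) (by rw [Nat.card_eq_fintype_card, hF]; norm_num)
      obtain ⟨e5⟩ := Linear.nonempty_pslTwo_five (F := ZMod 5) (ZMod.card 5)
      exact .inr (.inr (.inr (.inr (.inl ⟨ZMod 5, inferInstance, inferInstance, 5, ZMod.card 5, le_rfl,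
        .inr (by norm_num), ⟨(e.trans e4).trans e5.symm⟩⟩))))
    · exact .inr (.inl ⟨F, inferInstance, inferInstance, n, h3', hF, ⟨e⟩⟩)
  · exact .inr (.inr (.inr (.inr (.inl ⟨F, inferInstance, inferInstance, _, rfl, by omega, hmod, he⟩))))
  · rcases reeType_or_j1_of hC h3 h with h' | h'
    · exact .inl h'
    · exact .inr (.inr (.inr (.inr (.inr h'))))

/-- `IsRee` or `IsJ1` behind `Elem8`. -/
theorem isRee_or_isJ1_of (hC : CentTarget.{u}) (h3 : ThreeTarget.{u}) (hO : OrderTarget.{u}) (h : Elem8 G) :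
    IsRee G ∨ IsJ1 G := by
  obtain ⟨t, F, _, _, hd⟩ := hC G h
  rcases h3 G t F hd with h5 | ⟨m, hm, hF⟩
  · exact .inr (jt_isJ1 hd h5)
  · exact .inl ⟨h.simple, m, hm, hO G t F hd m hm hF⟩

theorem quaternion_unique : ∀ a b : QuaternionGroup 2, a * a = 1 → b * b = 1 → a ≠ 1 → b ≠ 1 → a = b := by
  decide

/-- Quaternion Sylow 2-subgroups do not occur. -/
theorem not_quaternion [IsSimpleGroup G] (hG : ¬ IsMulCommutative G) (T : Sylow 2 G)
    (e : (T : Subgroup G) ≃* QuaternionGroup 2) : False := by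
  haveI : Fact (Nat.Prime 2) := ⟨Nat.prime_two⟩
  have h2 : ¬ SuzukiRankOne.TwoInvolutions G := by
    rintro ⟨x, y, hx1, hy1, hxy, hx, hy, hc⟩
    have hP : IsPGroup 2 ↥(Subgroup.closure ({x, y} : Set G)) := by
      refine Involution.isPGroup_closure_pair ?_ ?_ hxy (a := 1) ?_
      · exact orderOf_eq_prime (by rw [pow_two, hx]) hx1
      · exact orderOf_eq_prime (by rw [pow_two, hy]) hy1
      · rw [pow_one, pow_two, mul_assoc, ← mul_assoc y, ← hc, mul_assoc x y, hy, mul_one, hx]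
    obtain ⟨P, hP⟩ := hP.exists_le_sylow
    let f : ↥(P : Subgroup G) ≃* QuaternionGroup 2 := (T.equiv P).symm.trans e
    have := quaternion_unique (f ⟨x, hP (subset_closure (by simp))⟩) (f ⟨y, hP (subset_closure (by simp))⟩)
      (by rw [← map_mul, ← map_one f]; exact congrArg f (Subtype.ext hx))
      (by rw [← map_mul, ← map_one f]; exact congrArg f (Subtype.ext hy))
      (fun h => hx1 (congrArg Subtype.val ((map_eq_one_iff f f.injective).1 h)))
      (fun h => hy1 (congrArg Subtype.val ((map_eq_one_iff f f.injective).1 h)))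
    exact hxy (congrArg Subtype.val (f.injective this))
  have h2G : 2 ∣ Nat.card G := (dvd_of_mul_left_eq _ rfl : 2 ∣ 2 * 2).trans (four_dvd_card hG)
  obtain ⟨t, ht⟩ := exists_prime_orderOf_dvd_card' 2 h2G
  have hsup := (Bender.isolated_case h2 t ht).1
  rw [Goldschmidt.General.pPrimeCore_eq_bot_of_simple ‹_› h2G, bot_sup_eq] at hsup
  have hz : t ∈ center G := mem_center_iff.2 fun g =>
    mem_centralizer_singleton_iff.1 (hsup.ge (mem_top g))
  rw [(Subgroup.Normal.eq_bot_or_eq_top (inferInstance : (center G).Normal)).resolve_right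
    fun h => hG ⟨⟨fun a b => mem_center_iff.1 (h.ge (mem_top b) : b ∈ center G) a⟩⟩, mem_bot] at hz
  rw [hz, orderOf_one] at ht
  norm_num at ht

theorem key_sixteen : ∀ x : ZMod 16, 2 * x * (x + 1) * (2 * x + 1) = 8 → x.val % 8 = 3 ∨ x.val % 8 = 4 := by
  decide

/-- S0993. -/
theorem s0993_of (hC : CentTarget.{u}) (h3 : ThreeTarget.{u}) (hO : OrderTarget.{u}) [IsSimpleGroup G]
    (hG : ¬ IsMulCommutative G) (T : Sylow 2 G) (hT : Nat.card ↥(T : Subgroup G) = 8) :
    (∃ (F : Type) (_ : Field F) (_ : Fintype F), Fintype.card F = 8 ∧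
        Nonempty (G ≃* Matrix.ProjectiveSpecialLinearGroup (Fin 2) F)) ∨
      (∃ (F : Type) (_ : Field F) (_ : Fintype F), (Fintype.card F % 16 = 7 ∨ Fintype.card F % 16 = 9) ∧
        Nonempty (G ≃* Matrix.ProjectiveSpecialLinearGroup (Fin 2) F)) ∨
      Nonempty (G ≃* alternatingGroup (Fin 7)) ∨ IsJ1 G ∨ IsRee G := by
  haveI : Fact (Nat.Prime 2) := ⟨Nat.prime_two⟩
  have h8 : 8 ∣ Nat.card G := hT ▸ card_subgroup_dvd_card _
  have h16 : ¬ 16 ∣ Nat.card G := fun hd => by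
    have := T.pow_dvd_card_of_pow_dvd_card (n := 4) (by simpa using hd)
    rw [hT] at this
    norm_num at this
  by_cases hS : IsMulCommutative (T : Subgroup G)
  · rcases simple_cases8 hG T hS with ⟨F, _, _, n, hn, hF, ⟨e⟩⟩ | ⟨hn8, -⟩ | h
    · refine .inl ⟨F, inferInstance, inferInstance, ?_, ⟨e⟩⟩
      have hc := PSL2.card_psl_mul (F := F)
      rw [← Nat.card_congr e.toEquiv, Nat.card_eq_fintype_card (α := F), hF, show Nat.gcd 2 (2 ^ n - 1) = 1 by
        refine Nat.coprime_two_left.2 ?_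
        exact Nat.Even.sub_odd Nat.one_le_two_pow (Nat.even_pow.2 ⟨even_two, by omega⟩) odd_one, one_mul] at hc
      rcases (show n = 2 ∨ n = 3 ∨ 4 ≤ n by omega) with rfl | rfl | h4
      · norm_num at hc
        rw [hc] at h8
        norm_num at h8
      · rw [hF]; norm_num
      · exact absurd (hc ▸ Dvd.dvd.mul_right (show 16 ∣ 2 ^ n from pow_dvd_pow 2 h4) _) h16
    · exact absurd h8 hn8
    · exact .inr (.inr (.inr (isRee_or_isJ1_of hC h3 hO h).symm))
  rcases OrderJanko.eight_types hT with hel | hc | ⟨⟨e⟩⟩ | ⟨⟨e⟩⟩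
  · refine absurd ⟨⟨fun a b => ?_⟩⟩ hS
    have hi : ∀ c, c⁻¹ = c := fun c => inv_eq_of_mul_eq_one_right (hel c)
    rw [← hi (a * b), mul_inv_rev, hi, hi]
  · exact absurd hc hS
  · exact (not_quaternion hG T e).elim
  rcases GWDihedral.dihedralGW G ‹_› hG T 4 (by norm_num) ⟨e⟩ with ⟨F, _, _, ⟨k, hk⟩, ⟨e'⟩⟩ | h7
  · refine .inr (.inl ⟨F, inferInstance, inferInstance, ?_, ⟨e'⟩⟩)
    have hc := PSL2.card_psl_mul (F := F)
    rw [← Nat.card_congr e'.toEquiv, Nat.card_eq_fintype_card (α := F), hk, show 2 * k + 1 - 1 = 2 * k by omega,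
      show Nat.gcd 2 (2 * k) = 2 from Nat.gcd_eq_left (dvd_mul_right 2 k)] at hc
    have hc' : Nat.card G = 2 * k * (k + 1) * (2 * k + 1) := by
      refine Nat.eq_of_mul_eq_mul_left two_pos (hc.trans ?_)
      ring
    have hmod : Nat.card G % 16 = 8 := by omega
    have hk8 := key_sixteen (k : ZMod 16) (by
      have h := congrArg (Nat.cast : ℕ → ZMod 16) hc'
      rw [← ZMod.natCast_mod (Nat.card G) 16, hmod] at h
      push_cast at h
      exact h.symm)
    rw [ZMod.val_natCast] at hk8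
    omega
  · exact .inr (.inr (.inl h7))

end Cfsg.Agent.AbelianSylow
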