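import Cfsg.Agent.EqLemmas
import Cfsg.Agent.Lib.AbelianSylow.GoldschmidtStruct.Cover
import Cfsg.Prelude.Def_PLocal

/-!
# Goldschmidt's theorem on strongly closed abelian 2-subgroups, structural form (owner: helper56)

* `hyp_of_closed` : the normal closure modulo its odd core satisfies `Hyp`
* `Hyp.conclusion` : the four conclusions for a configuration
* `structural_of` : statement S2775 from `CentTarget`
-/

set_option autoImplicit false
set_option linter.unusedSectionVars false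
set_option linter.style.haveILetI false

namespace Cfsg.Agent.AbelianSylow.GoldschmidtStruct

open Cfsg Subgroup Cfsg.Agent.Components
open scoped commutatorElement

universe u

variable {X : Type u} [Group X] [Finite X] {T : Sylow 2 X} {A : Subgroup X}

/-- The conclusions. -/
theorem Hyp.conclusion (H : Hyp X T A) (hA : CentTarget.{u}) :
    Cfsg.pCore 2 X ⊔ commutator X = ⊤ ∧ Cfsg.pCore 2 X ≤ Subgroup.center X ∧
      A = Cfsg.pCore 2 X ⊔ Cfsg.omegaOne 2 (T : Subgroup X) ∧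
      ∃ (ι : Type) (_ : Fintype ι) (L : ι → Type u) (_ : ∀ i, Group (L i)),
        (∀ i, IsSimpleGroup (L i) ∧ ¬ IsMulCommutative (L i) ∧ Cfsg.IsGoldschmidtGroup (L i)) ∧
        Nonempty (↥(commutator X) ⧸ Subgroup.center ↥(commutator X) ≃* ((i : ι) → L i)) := by
  classical
  haveI : Fact (Nat.Prime 2) := ⟨Nat.prime_two⟩
  obtain ⟨hBA, hBc⟩ := H.pCore_le
  set B := Cfsg.pCore 2 X with hBdef
  haveI hBn : B.Normal := Cores.pCore_normal 2 X
  have hB2 : IsPGroup 2 ↥B := Cores.isPGroup_pCore 2 X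
  set π := QuotientGroup.mk' B with hπ
  have hπs : Function.Surjective π := QuotientGroup.mk'_surjective B
  have hπ1 : ∀ {x : X}, π x = 1 ↔ x ∈ B := fun {x} => QuotientGroup.eq_one_iff x
  have hY := H.quotient B hB2 hBc
  have hYB : Cfsg.pCore 2 (X ⧸ B) = ⊥ := Cores.pCore_quotient_self 2 X
  have hlift : ∀ {x : X}, π x ∈ A.map π → x ∈ A := by
    rintro x ⟨a, ha, e⟩
    have h1 : a⁻¹ * x ∈ B := QuotientGroup.eq.1 e
    simpa using A.mul_mem ha (hBA h1)
  have hperf : commutator (X ⧸ B) = ⊤ := by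
    have h := layer_perfect (G := X ⧸ B)
    rw [Bare.layer_eq_top hY hYB] at h
    rwa [_root_.commutator_def]
  have hmap : (commutator X).map π = ⊤ := by
    rw [_root_.commutator_def, map_commutator, map_top_of_surjective _ hπs, ← _root_.commutator_def,
      hperf]
  refine ⟨?_, hBc, le_antisymm ?_ (sup_le hBA ?_), ?_⟩
  · rw [eq_top_iff]
    intro x _
    obtain ⟨d, hd, e⟩ := hmap.ge (mem_top (π x))
    have h1 : d⁻¹ * x ∈ B := QuotientGroup.eq.1 e
    have h2 : x * d⁻¹ ∈ B := by simpa [mul_assoc] using hBn.conj_mem _ h1 d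
    simpa using mul_mem_sup h2 hd
  · intro a ha
    have h1 : A.map π ≤ (B ⊔ Cfsg.omegaOne 2 (T : Subgroup X)).map π := by
      refine le_trans (Bare.le_closure hY hYB) ((closure_le _).2 ?_)
      rintro _ ⟨n, hn, _, ⟨b, hb, rfl⟩, rfl⟩
      obtain ⟨n, rfl⟩ := hπs n
      have hnb : n * b * n⁻¹ ∈ A := hlift (by
        rw [map_mul, map_mul, map_inv]
        exact (mem_normalizer_iff.1 hn _).1 (mem_map_of_mem π hb))
      have hb2 : b * b ∈ B := hπ1.1 (by
        rw [map_mul]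
        exact Bare.sq_one hY hYB (mem_map_of_mem π hb))
      refine ⟨⁅n, b⁆, mem_sup_right (subset_closure ⟨?_, ?_⟩), map_commutatorElement π n b⟩
      · exact mul_mem (H.le hnb) (inv_mem (H.le hb))
      · have hc : b⁻¹ * (n * b * n⁻¹) = n * b * n⁻¹ * b⁻¹ := H.comm _ (A.inv_mem hb) _ hnb
        have hz : n * (b * b) = b * b * n := mem_center_iff.1 (hBc hb2) n
        rw [pow_two, commutatorElement_def]
        calc n * b * n⁻¹ * b⁻¹ * (n * b * n⁻¹ * b⁻¹)
            = n * b * n⁻¹ * (b⁻¹ * (n * b * n⁻¹)) * b⁻¹ := by group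
          _ = n * b * n⁻¹ * (n * b * n⁻¹ * b⁻¹) * b⁻¹ := by rw [hc]
          _ = n * (b * b) * n⁻¹ * (b * b)⁻¹ := by group
          _ = 1 := by rw [hz]; group
    obtain ⟨x, hx, e⟩ := h1 (mem_map_of_mem π ha)
    have h2 : x⁻¹ * a ∈ B := QuotientGroup.eq.1 e
    simpa using mul_mem hx (mem_sup_left h2)
  · rw [Cfsg.omegaOne, closure_le]
    rintro x ⟨hxT, hx2⟩
    refine hlift (Bare.mem_of_sq_one hY hYB (mem_map_of_mem π hxT) ?_)
    rw [← map_mul, ← pow_two, hx2, map_one]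
  · obtain ⟨ι, iι, L, iL, hL, ⟨e⟩⟩ := Bare.exists_product hY hYB hA
    refine ⟨ι, iι, L, iL, hL, ?_⟩
    let f : ↥(commutator X) →* X ⧸ B := π.comp (commutator X).subtype
    have hf : Function.Surjective f := fun y => by
      obtain ⟨d, hd, e⟩ := hmap.ge (mem_top y)
      exact ⟨⟨d, hd⟩, e⟩
    have hcent : Subgroup.center (X ⧸ B) = ⊥ :=
      le_bot_iff.1 (Bare.fitting_eq_bot hY hYB ▸ Cores.center_le_fittingSubgroup)
    have hk : Subgroup.center ↥(commutator X) = f.ker := by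
      ext z
      rw [MonoidHom.mem_ker]
      refine ⟨fun hz => mem_bot.1 (hcent ▸ mem_center_iff.2 fun y => ?_), fun hz => ?_⟩
      · obtain ⟨w, rfl⟩ := hf y
        rw [← map_mul, ← map_mul, mem_center_iff.1 hz w]
      · exact mem_center_iff.2 fun w => Subtype.ext (mem_center_iff.1 (hBc (hπ1.1 hz)) w)
    exact ⟨(QuotientGroup.quotientMulEquivOfEq hk).trans
      ((QuotientGroup.quotientKerEquivOfSurjective f hf).trans e)⟩

/-- The normal closure modulo its odd core. -/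
theorem hyp_of_closed {G : Type u} [Group G] [Finite G] (S : Sylow 2 G) (A : Subgroup G)
    (hA : IsMulCommutative ↥A) (hsc : Cfsg.IsStronglyClosed A (S : Subgroup G)) (K : Subgroup G)
    (hK : K = Subgroup.normalClosure (A : Set G)) (Q : Type u) [Group Q] [Finite Q] (π : ↥K →* Q)
    (hπ : Function.Surjective π) (hker : π.ker = Cfsg.pPrimeCore 2 ↥K) :
    ∃ T : Sylow 2 Q, Hyp Q T ((A.subgroupOf K).map π) := by
  classical
  haveI : Fact (Nat.Prime 2) := ⟨Nat.prime_two⟩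
  haveI hKn : K.Normal := hK ▸ normalClosure_normal
  have hAK : A ≤ K := hK ▸ subset_normalClosure
  obtain ⟨P, hP⟩ := Cores.sylow_inf_isSubnormal S (Normal.isSubnormal hKn)
  have hPm : ∀ y : ↥K, y ∈ (P : Subgroup ↥K) ↔ (y : G) ∈ (S : Subgroup G) := fun y => by
    rw [hP, mem_subgroupOf]
  set A' := A.subgroupOf K with hA'
  have hsc' : Cfsg.IsStronglyClosed A' (P : Subgroup ↥K) :=
    ⟨fun a ha => (hPm a).2 (hsc.1 ha), fun a ha g hg => by
      have := hsc.2 (a : G) ha (g : G) (by simpa using (hPm _).1 hg)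
      simpa [hA', mem_subgroupOf] using this⟩
  have hcomm : ∀ a ∈ A', ∀ b ∈ A', a * b = b * a := fun a ha b hb => Subtype.ext
    (show (a : G) * (b : G) = (b : G) * (a : G) from
      congrArg Subtype.val (hA.is_comm.comm (⟨(a : G), ha⟩ : A) ⟨(b : G), hb⟩))
  -- `A` generates with its conjugates in `K`
  have hgen : normalClosure (A' : Set ↥K) = ⊤ := by
    set N := normalClosure (A' : Set ↥K) with hN
    have hAN : (A : Set G) ⊆ N.map K.subtype := fun a ha => ⟨⟨a, hAK ha⟩, subset_normalClosure ha, rfl⟩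
    have hle : Subgroup.normalClosure (A : Set G) ≤ N.map K.subtype := by
      rw [normalClosure]
      refine (closure_le _).2 fun y hy => ?_
      obtain ⟨a, ha, hconj⟩ := Group.mem_conjugatesOfSet_iff.1 hy
      obtain ⟨g, rfl⟩ := isConj_iff.1 hconj
      have hg : g ∈ normalizer (((P : Subgroup ↥K).map K.subtype : Subgroup G) : Set G) ⊔ K := by
        rw [Sylow.normalizer_sup_eq_top P]; exact mem_top g
      rw [sup_comm] at hg
      obtain ⟨k, hk, n, hn, rfl⟩ := mem_sup_of_normal_left.1 hg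
      have haP : a ∈ (P : Subgroup ↥K).map K.subtype := ⟨⟨a, hAK ha⟩, (hPm _).2 (hsc.1 ha), rfl⟩
      obtain ⟨y', hy', e⟩ := (mem_normalizer_iff.1 hn a).1 haP
      have hnA : n * a * n⁻¹ ∈ A := hsc.2 a ha n (by rw [← e]; exact (hPm y').1 hy')
      obtain ⟨m, hm, e'⟩ := hAN hnA
      refine ⟨⟨k, hk⟩ * m * ⟨k, hk⟩⁻¹, (normalClosure_normal (s := (A' : Set ↥K))).conj_mem m hm _, ?_⟩
      simp only [map_mul, map_inv, coe_subtype, e']
      group
    rw [eq_top_iff]
    intro x _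
    obtain ⟨m, hm, e⟩ := hle (hK ▸ x.2 : (x : G) ∈ Subgroup.normalClosure (A : Set G))
    exact (Subtype.ext e : m = x) ▸ hm
  refine ⟨P.mapSurjective hπ, ?_, ⟨map_mono hsc'.1, ?_⟩, ?_, ?_⟩
  · haveI : (Cfsg.pPrimeCore 2 ↥K).Normal := Cores.pPrimeCore_normal 2 _
    let e : ↥K ⧸ Cfsg.pPrimeCore 2 ↥K ≃* Q :=
      (QuotientGroup.quotientMulEquivOfEq hker.symm).trans (QuotientGroup.quotientKerEquivOfSurjective π hπ)
    rw [← Cores.pPrimeCore_map_mulEquiv e 2, Cores.pPrimeCore_quotient_self, Subgroup.map_bot]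
  · rintro _ ⟨a, ha, rfl⟩ g hg
    obtain ⟨g, rfl⟩ := hπ g
    rw [← map_inv, ← map_mul, ← map_mul] at hg ⊢
    obtain ⟨p, hp, e⟩ := hg
    have hcl := ClosedPair.closed_classOf P hsc'
    obtain ⟨n, hn, hnP, hnT, -⟩ := hcl.exists_lift π.ker P (x := g * a * g⁻¹)
      (hcl.conj g a (ClosedPair.mem_classOf_of_mem ha))
      ⟨p, hp, QuotientGroup.eq.2 (by rw [MonoidHom.mem_ker, map_mul, map_inv, e, inv_mul_cancel])⟩
    refine ⟨n * (g * a * g⁻¹) * n⁻¹, (ClosedPair.mem_classOf_iff hsc' hnP).1 hnT, ?_⟩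
    rw [map_mul π _ n⁻¹, map_mul π n, map_inv π n, MonoidHom.mem_ker.1 hn, one_mul, inv_one, mul_one]
  · rintro _ ⟨a, ha, rfl⟩ _ ⟨b, hb, rfl⟩
    rw [← map_mul, ← map_mul, hcomm a ha b hb]
  · have h := Subgroup.map_normalClosure (A' : Set ↥K) π hπ
    rw [hgen, map_top_of_surjective _ hπ] at h
    rw [Subgroup.coe_map]
    exact h.symm

/-- **Goldschmidt's theorem, structural form** (S2775). -/
theorem structural_of (hCent : CentTarget.{u}) {G : Type u} [Group G] [Finite G] (S : Sylow 2 G)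
    (A : Subgroup G) (hA : IsMulCommutative ↥A) (hsc : Cfsg.IsStronglyClosed A (S : Subgroup G))
    (K : Subgroup G) (hK : K = Subgroup.normalClosure (A : Set G)) (Q : Type u) [Group Q] (π : ↥K →* Q)
    (hπ : Function.Surjective π) (hker : π.ker = Cfsg.pPrimeCore 2 ↥K) :
    Cfsg.pCore 2 Q ⊔ commutator Q = ⊤ ∧ Cfsg.pCore 2 Q ≤ Subgroup.center Q ∧
      (∃ T : Sylow 2 Q, (A.subgroupOf K).map π ≤ (T : Subgroup Q) ∧
        (A.subgroupOf K).map π = Cfsg.pCore 2 Q ⊔ Cfsg.omegaOne 2 (T : Subgroup Q)) ∧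
      ∃ (ι : Type) (_ : Fintype ι) (L : ι → Type u) (_ : ∀ i, Group (L i)),
        (∀ i, IsSimpleGroup (L i) ∧ ¬ IsMulCommutative (L i) ∧ Cfsg.IsGoldschmidtGroup (L i)) ∧
        Nonempty (↥(commutator Q) ⧸ Subgroup.center ↥(commutator Q) ≃* ((i : ι) → L i)) := by
  haveI : Finite Q := Finite.of_surjective π hπ
  obtain ⟨T, H⟩ := hyp_of_closed S A hA hsc K hK Q π hπ hker
  obtain ⟨h1, h2, h3, h4⟩ := H.conclusion hCent
  exact ⟨h1, h2, ⟨T, H.le, h3⟩, h4⟩

end Cfsg.Agent.AbelianSylow.GoldschmidtStruct
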