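import Cfsg.Agent.Lib.AbelianSylow.Consumers
import Cfsg.Agent.Lib.AbelianSylow.TwoTrans.Ree
import Cfsg.Agent.Lib.Linear.PSLTwoSmall
import Cfsg.Agent.Lib.JankoOneOrder.Main
import Mathlib.LinearAlgebra.Projectivization.PSL.PSL2

/-!
# Simple groups with abelian Sylow 2-subgroups and no doubly transitive action (for S4272)
-/

set_option autoImplicit false
set_option linter.style.haveILetI false
set_option linter.unusedSectionVars false

namespace Cfsg.Agent.AbelianSylow.NoTwoTrans

open Subgroup MulAction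
open scoped LinearAlgebra.Projectivization

universe u

variable {G : Type u} [Group G] [Finite G]

/-- `G` has no faithful doubly transitive action. -/
def NoAction (G : Type u) [Group G] : Prop :=
  ∀ (Ω : Type) [Fintype Ω] [MulAction G Ω] [FaithfulSMul G Ω], ¬ IsMultiplyPretransitive G Ω 2

/-- The two-transitive action on the cosets of a subgroup that is transitive on the other cosets. -/
theorem pretransitive_quotient {H : Subgroup G}
    (h : ∀ g₁ g₂ : G, g₁ ∉ H → g₂ ∉ H → ∃ k ∈ H, g₂⁻¹ * (k * g₁) ∈ H) :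
    IsMultiplyPretransitive G (G ⧸ H) 2 := by
  refine is_two_pretransitive_iff.2 ?_
  intro a b c d hab hcd
  obtain ⟨a, rfl⟩ := QuotientGroup.mk_surjective a
  obtain ⟨b, rfl⟩ := QuotientGroup.mk_surjective b
  obtain ⟨c, rfl⟩ := QuotientGroup.mk_surjective c
  obtain ⟨d, rfl⟩ := QuotientGroup.mk_surjective d
  have h1 : a⁻¹ * b ∉ H := fun e => hab (QuotientGroup.eq.2 e)
  have h2 : c⁻¹ * d ∉ H := fun e => hcd (QuotientGroup.eq.2 e)
  obtain ⟨k, hk, hkH⟩ := h _ _ h1 h2
  refine ⟨c * k * a⁻¹, ?_, ?_⟩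
  · show ((c * k * a⁻¹ * a : G) : G ⧸ H) = (c : G ⧸ H)
    rw [QuotientGroup.eq]
    simpa [mul_assoc] using inv_mem hk
  · show ((c * k * a⁻¹ * b : G) : G ⧸ H) = (d : G ⧸ H)
    rw [QuotientGroup.eq]
    have := inv_mem hkH
    simpa [mul_assoc] using this

theorem false_of_subgroup [IsSimpleGroup G] {H : Subgroup G} (hH : H ≠ ⊤)
    (h : ∀ g₁ g₂ : G, g₁ ∉ H → g₂ ∉ H → ∃ k ∈ H, g₂⁻¹ * (k * g₁) ∈ H) (hno : NoAction G) : False := by
  haveI := pretransitive_quotient h
  -- a copy of the coset space in `Type`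
  obtain ⟨n, ⟨e⟩⟩ := Finite.exists_equiv_fin (G ⧸ H)
  letI : MulAction G (Fin n) :=
    { smul := fun g x => e (g • e.symm x)
      one_smul := fun x => by show e ((1 : G) • e.symm x) = x; rw [one_smul, e.apply_symm_apply]
      mul_smul := fun g g' x => by
        show e ((g * g') • e.symm x) = e (g • e.symm (e (g' • e.symm x)))
        rw [e.symm_apply_apply, mul_smul] }
  have hsm : ∀ (g : G) (q : G ⧸ H), g • e q = e (g • q) := fun g q => by
    show e (g • e.symm (e q)) = _
    rw [e.symm_apply_apply]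
  haveI : FaithfulSMul G (Fin n) := by
    refine ⟨fun {g g'} hgg => ?_⟩
    have hker : H.normalCore = ⊥ :=
      (H.normalCore_normal.eq_bot_or_eq_top).resolve_right fun ht =>
        hH (top_le_iff.1 (ht ▸ H.normalCore_le))
    have hmem : g⁻¹ * g' ∈ H.normalCore := by
      intro b
      have := hgg (e ((b⁻¹ : G) : G ⧸ H))
      rw [hsm, hsm, e.injective.eq_iff] at this
      have h3 : ((g * b⁻¹ : G) : G ⧸ H) = ((g' * b⁻¹ : G) : G ⧸ H) := this
      rw [QuotientGroup.eq] at h3
      simpa [mul_assoc] using h3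
    rw [hker, mem_bot, inv_mul_eq_one] at hmem
    exact hmem
  refine hno (Fin n) (is_two_pretransitive_iff.2 fun {a b c d} hab hcd => ?_)
  obtain ⟨g, h1, h2⟩ := is_two_pretransitive_iff.1 (pretransitive_quotient h)
    (fun h' => hab (e.symm.injective h')) (fun h' => hcd (e.symm.injective h'))
  refine ⟨g, ?_, ?_⟩
  · show e (g • e.symm a) = c
    rw [h1, e.apply_symm_apply]
  · show e (g • e.symm b) = d
    rw [h2, e.apply_symm_apply]

/-- `L₂(q)` acts doubly transitively on the projective line. -/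
theorem false_of_psl {F : Type} [Field F] [Fintype F]
    (e : G ≃* Matrix.ProjectiveSpecialLinearGroup (Fin 2) F) (hno : NoAction G) : False := by
  classical
  letI : Fintype (ℙ F (Fin 2 → F)) := Fintype.ofFinite _
  letI : MulAction G (ℙ F (Fin 2 → F)) := MulAction.compHom _ e.toMonoidHom
  have hsm : ∀ (g : G) (x : ℙ F (Fin 2 → F)), g • x = e g • x := fun g x => rfl
  haveI : FaithfulSMul G (ℙ F (Fin 2 → F)) :=
    ⟨fun {g g'} h => e.injective (eq_of_smul_eq_smul (α := ℙ F (Fin 2 → F)) fun x => by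
      rw [← hsm, ← hsm]; exact h x)⟩
  refine hno (ℙ F (Fin 2 → F)) (is_two_pretransitive_iff.2 fun {a b c d} hab hcd => ?_)
  obtain ⟨g, h1, h2⟩ := is_two_pretransitive_iff.1
    (inferInstance : IsMultiplyPretransitive (Matrix.SpecialLinearGroup (Fin 2) F) (ℙ F (Fin 2 → F)) 2) hab hcd
  obtain ⟨x, hx⟩ := e.surjective (QuotientGroup.mk g)
  refine ⟨x, ?_, ?_⟩ <;> rw [hsm, hx]
  exacts [h1, h2]

/-- S4272, given the three targets. -/
theorem card_of (hCent : CentTarget.{u}) (hThree : ThreeTarget.{u}) (hOrder : OrderTarget.{u})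
    [IsSimpleGroup G] (hG : ¬ IsMulCommutative G) (P : Sylow 2 G)
    (hP : IsMulCommutative (P : Subgroup G)) (hno : NoAction G) : Nat.card G = 175560 := by
  haveI : Fact (Nat.Prime 2) := ⟨Nat.prime_two⟩
  rcases simple_cases8 hG P hP with ⟨F, _, _, n, -, -, ⟨e⟩⟩ | ⟨-, F, _, _, -, -, ⟨e⟩⟩ | hE
  · exact (false_of_psl e hno).elim
  · exact (false_of_psl e hno).elim
  obtain ⟨t, F, _, _, hJ⟩ := hCent G hE
  rcases hThree G t F hJ with h5 | ⟨m, hm, hF⟩
  · obtain ⟨e⟩ := hJ.cent
    obtain ⟨e5⟩ := Linear.nonempty_pslTwo_five h5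
    obtain ⟨S, hS⟩ := exists_sylow_mem hJ.invol
    have htc : Cfsg.IsTwoCentralInvolution t :=
      ⟨hJ.invol, S, hS, fun x hx => by
        have := (hJ.sylow S).1.1.is_comm.comm ⟨x, hx⟩ ⟨t, hS⟩
        exact congrArg Subtype.val this⟩
    exact (JankoOneOrder.isJ1 htc (e.trans (MulEquiv.prodCongr (MulEquiv.refl _) e5))).2
  · exfalso
    obtain ⟨H, Q, D, w, X⟩ := TwoTrans.exists_point_of_order hJ hF (hOrder G t F hJ m hm hF)
    exact false_of_subgroup X.proper X.twoTrans hno

end Cfsg.Agent.AbelianSylow.NoTwoTrans
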